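import Cfsg.Agent.Lib.Suborbit3.Times.Dihedral
import Cfsg.Agent.Lib.Suborbit3.Four.Dihedral
import Cfsg.Agent.S2060

/-!
# Stabilizer `S₄ × 2`
-/

set_option autoImplicit false
set_option linter.style.haveILetI false

namespace CfsgLib.Suborbit3

open Subgroup Equiv CfsgLib.Suborbit3.Four

universe u

/-- Automorphisms of `M₁₁` are inner. -/
theorem exists_conj_of_isoM11 {X : Type*} [Group X] [Finite X] (hM : Cfsg.Spor.IsoM11 X)
    (φ : MulAut X) : ∃ m : X, φ = MulAut.conj m := by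
  obtain ⟨e⟩ := hM
  haveI : Finite Cfsg.Spor.M11 := Finite.of_equiv X e.toEquiv
  have h1 := Cfsg.Agent.S2060.result
  rw [Nat.card_eq_one_iff_unique] at h1
  haveI := h1.1
  have h2 : MulAut.congr e φ ∈ Cfsg.Inn ↥Cfsg.Spor.M11 :=
    (QuotientGroup.eq_one_iff _).1 (Subsingleton.elim _ _)
  obtain ⟨n, hn⟩ := h2
  refine ⟨e.symm n, MulEquiv.ext fun x => e.injective ?_⟩
  have h3 := DFunLike.congr_fun hn (e x)
  rw [MulAut.conj_apply] at h3
  rw [MulAut.conj_apply, map_mul, map_mul, map_inv, e.apply_symm_apply, h3]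
  show e (φ x) = e (φ (e.symm (e x)))
  rw [e.symm_apply_apply]

theorem Hyp.case_times {G : Type u} [Group G] [Finite G] {H L : Subgroup G} {g : G}
    (hGW : CfsgLib.GWCons.RankOneCover.DihedralClassification.{u}) (h : Hyp H L g)
    (J : Model H (Perm (Fin 4) × Multiplicative (ZMod 2))) : Concl G := by
  obtain ⟨K⟩ := Times.exists_ctx h J
  obtain ⟨M, hMn, hM2, hzM⟩ := K.exists_residual
  haveI := hMn
  haveI := K.isSimple hM2 hzM
  let E := K.loc hM2 hzM
  obtain ⟨S, hS⟩ := E.exists_sylow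
  rcases E.dihedral_or_sd hS with ⟨n, hn, ⟨e⟩⟩ | ⟨r, x, y, hsd⟩
  · have hne : ∃ a b : M, a * b ≠ b * a :=
      ⟨E.j vP, E.j sP, fun e => absurd (E.inj (by rw [map_mul, map_mul]; exact e))
        (by decide +kernel : vP * sP ≠ sP * vP)⟩
    obtain ⟨F, _, _, hodd, -, ⟨f⟩⟩ := exists_psl hGW hne (K.sixteen_dvd hM2 hzM) S (by omega) e
    exact (K.false_of_psl hM2 hzM hodd f).elim
  · rcases E.sd_case hS hsd with hp | hM
    · exact Or.inr (Or.inr (Or.inr (Or.inr (Or.inr (Or.inr (Or.inr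
        ⟨M, hMn, hM2, K.centralizer_eq_bot hM2 hzM, hp⟩))))))
    · exfalso
      obtain ⟨m, hm⟩ := exists_conj_of_isoM11 hM (MulAut.conjNormal K.z)
      have hc : (m : G)⁻¹ * K.z ∈ centralizer (M : Set G) := mem_centralizer_iff.2 fun x hx => by
        have e := congrArg Subtype.val (DFunLike.congr_fun hm ⟨x, hx⟩)
        rw [MulAut.conjNormal_apply, MulAut.conj_apply] at e
        simp only [Subgroup.coe_mul, Subgroup.coe_inv] at e
        calc x * ((m : G)⁻¹ * K.z) = (m : G)⁻¹ * ((m : G) * x * (m : G)⁻¹) * K.z := by group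
          _ = (m : G)⁻¹ * (K.z * x * K.z⁻¹) * K.z := by rw [e]
          _ = (m : G)⁻¹ * K.z * x := by group
      rw [K.centralizer_eq_bot hM2 hzM, mem_bot, inv_mul_eq_one] at hc
      exact hzM (hc ▸ m.2)

end CfsgLib.Suborbit3
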