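import Cfsg.Agent.Lib.GW.TopModelAut
import Cfsg.Agent.Lib.DGroup.Outer
import Cfsg.Agent.Lib.Suborbit3.Four.Perm

/-!
# `PSL(2, q)`: dihedral centralizers, and automorphisms of `PSL(2, 17)` fixing an `S₄`
-/

set_option autoImplicit false
set_option linter.style.haveILetI false
set_option linter.unusedSectionVars false

namespace CfsgLib.Suborbit3.Times

open Matrix CfsgLib.PSL2

variable {F : Type*} [Field F] [Fintype F]

local notation "PSL" => ProjectiveSpecialLinearGroup (Fin 2) F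

/-- The centralizer of an involution of `PSL(2, q)` is dihedral. -/
theorem exists_dihedral_centralizer (hodd : Odd (Fintype.card F)) {i : PSL} (hi : orderOf i = 2) :
    ∃ k : ℕ, Nonempty ((Subgroup.centralizer {i} : Subgroup PSL) ≃* DihedralGroup k) := by
  classical
  obtain ⟨p, hp⟩ := CharP.exists F
  have : Fact p.Prime := ⟨CharP.char_is_prime F p⟩
  let ι : F →+* AlgebraicClosure F := algebraMap F _
  have : CharP (AlgebraicClosure F) p := charP_of_injective_ringHom ι.injective p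
  obtain ⟨Φ, hΦ⟩ := exists_frob (F := F) (L := AlgebraicClosure F) p
  have h2 := two_ne_zero_of_odd hodd
  have hq := Nat.odd_iff.1 hodd
  have hq1 := Fintype.one_lt_card (α := F)
  obtain ⟨x, y, e, h, h4⟩ : ∃ (x y : OnePoint (AlgebraicClosure F)) (e : ℕ),
      IsPair ι Φ x y e ∧ 4 ∣ e := by
    by_cases h4 : Fintype.card F % 4 = 1
    · obtain ⟨x, y, h⟩ := exists_isPair_split (ι := ι) (Φ := Φ)
      exact ⟨x, y, _, h, by omega⟩
    · obtain ⟨x, y, h⟩ := exists_isPair_nonsplit hΦ (ι := ι)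
      exact ⟨x, y, _, h, by omega⟩
  obtain ⟨j, hj, hC, -⟩ := exists_centralizer_eq hodd hΦ h h4
  obtain ⟨-, ⟨φ⟩⟩ := pslPair_dihedral hΦ h
  obtain ⟨g, hg⟩ := isConj_iff.1 (isConj_of_orderOf_two h2 hj hi)
  refine ⟨_, ⟨MulEquiv.trans ?_ ((MulEquiv.subgroupCongr hC).trans φ)⟩⟩
  refine ((Subgroup.equivMapOfInjective _ (MulAut.conj g⁻¹).toMonoidHom
    (MulAut.conj g⁻¹).injective)).trans (MulEquiv.subgroupCongr ?_)
  ext w
  simp only [Subgroup.mem_map, Subgroup.mem_centralizer_singleton_iff, MulEquiv.coe_toMonoidHom,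
    MulAut.conj_apply, inv_inv]
  constructor
  · rintro ⟨v, hv, rfl⟩
    calc g⁻¹ * v * g * j = g⁻¹ * (v * (g * j * g⁻¹)) * g := by group
      _ = g⁻¹ * (v * i) * g := by rw [hg]
      _ = g⁻¹ * (i * v) * g := by rw [hv]
      _ = g⁻¹ * (g * j * g⁻¹ * v) * g := by rw [hg]
      _ = j * (g⁻¹ * v * g) := by group
  · intro hw
    refine ⟨g * w * g⁻¹, ?_, by group⟩
    rw [← hg]
    calc g * w * g⁻¹ * (g * j * g⁻¹) = g * (w * j) * g⁻¹ := by group
      _ = g * (j * w) * g⁻¹ := by rw [hw]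
      _ = g * j * g⁻¹ * (g * w * g⁻¹) := by group

open CfsgLib.GW.TopModel CfsgLib.AutPSL CfsgLib.DGroup in
/-- No involutory automorphism of `PSL(2, 17)` fixes an `S₄`. -/
theorem false_of_fixed (hF : Fintype.card F = 17) {β : MulAut PSL} (hβ2 : β * β = 1) (hβ1 : β ≠ 1)
    (ψ : Equiv.Perm (Fin 4) →* PSL) (hψ : Function.Injective ψ) (hfix : ∀ a, β (ψ a) = ψ a) :
    False := by
  classical
  have hodd : Odd (Fintype.card F) := by rw [hF]; decide
  have h2 := two_ne_zero_of_odd hodd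
  obtain ⟨g, σ, rfl⟩ := exists_conj_field β
  obtain rfl : σ = 1 := by
    refine RingEquiv.ext fun x => ?_
    let e := ZMod.ringEquivOfPrime F (by norm_num : Nat.Prime 17) hF
    obtain ⟨a, rfl⟩ := e.surjective x
    rw [← ZMod.natCast_zmod_val a, map_natCast, map_natCast]
    rfl
  rw [map_one, mul_one] at hβ2 hβ1
  simp only [map_one, mul_one] at hfix
  rw [← aut_mk] at hβ2 hβ1 hfix
  set gb := ProjGenLinGroup.mk g
  rw [← map_mul, ← map_one (aut F)] at hβ2
  have hsq : gb * gb = 1 := aut_injective hβ2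
  have hne : gb ≠ 1 := fun e => hβ1 (by rw [e, map_one])
  obtain ⟨A, hA, hAg⟩ := pmk_surjective gb
  rw [← hAg] at hsq hne
  have htr := trace_eq_zero_of_involution hsq hne
  let θ : Equiv.Perm (Fin 4) →* Subgroup.centralizer ({pmk A hA} : Set (ProjGenLinGroup (Fin 2) F)) :=
    (ProjectiveSpecialLinearGroup.toPGL.comp ψ).codRestrict _ fun a => by
      rw [mem_centralizer_pmk, hAg]
      exact ((aut_fix_iff gb (ψ a)).1 (hfix a)).symm
  have hθ : Function.Injective θ := fun a b e =>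
    hψ (ProjectiveSpecialLinearGroup.toPGL_injective (congrArg Subtype.val e))
  have hd := Subgroup.card_dvd_of_injective θ hθ
  rw [Four.card_perm, CfsgLib.GW.TopModel.card_centralizer h2 htr hA, card_torus h2 htr hA, hF] at hd
  split_ifs at hd <;> norm_num at hd

end CfsgLib.Suborbit3.Times
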