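import Cfsg.Agent.Lib.Suborbit3.Times.Residual
import Cfsg.Agent.Lib.Suborbit3.Times.PSLInvol
import Cfsg.Agent.Lib.Suborbit3.PSLRecog
import Cfsg.Agent.Lib.PSL2.Involution

/-!
# Stabilizer `S₄ × 2`: the residual is not `PSL(2, q)`
-/

set_option autoImplicit false
set_option linter.style.haveILetI false
set_option linter.unusedSectionVars false

namespace CfsgLib.Suborbit3.Times

open Subgroup Equiv CfsgLib.Suborbit3.Four

theorem eq_one_of_four {A : Type*} [Monoid A] {a : A} {m : ℕ} (hm : Odd m) (h : a ^ m = 1)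
    (h4 : a * a * (a * a) = 1) : a = 1 := by
  have d1 : orderOf a ∣ 4 := orderOf_dvd_of_pow_eq_one (by
    rw [pow_succ, pow_succ, pow_two, mul_assoc]; exact h4)
  have d2 := orderOf_dvd_of_pow_eq_one h
  have hc : Nat.Coprime 4 m := by
    rw [show (4 : ℕ) = 2 ^ 2 by norm_num]
    exact Nat.Coprime.pow_left 2 (Nat.coprime_two_left.2 hm)
  exact orderOf_eq_one_iff.1 (Nat.eq_one_of_dvd_coprimes hc d1 d2)

theorem dihedral_odd_rot {k : ℕ} {d : DihedralGroup k} {m : ℕ} (hm : Odd m) (h : d ^ m = 1) :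
    ∃ i, d = DihedralGroup.r i := by
  rcases d with i | i
  · exact ⟨i, rfl⟩
  · exfalso
    have h2 : orderOf (DihedralGroup.sr i) ∣ m := orderOf_dvd_of_pow_eq_one h
    rw [DihedralGroup.orderOf_sr] at h2
    exact (Nat.not_even_iff_odd.2 hm) (even_iff_two_dvd.2 h2)

variable {G : Type*} [Group G] [Finite G] {H L : Subgroup G} {g : G}

theorem not_sixtyfour {M : Subgroup G} (hM2 : M.index = 2) {p : Sylow 2 G} (hp : Nat.card (p : Subgroup G) = 32) :
    ¬ 32 ∣ Nat.card M := by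
  haveI : Fact (Nat.Prime 2) := ⟨Nat.prime_two⟩
  intro hd
  have h64 : 2 ^ 6 ∣ Nat.card G := by
    rw [← M.card_mul_index, hM2]
    exact (show 2 ^ 6 = 32 * 2 by norm_num) ▸ Nat.mul_dvd_mul_right hd 2
  have h1 := p.card_eq_multiplicity
  rw [hp, show (32 : ℕ) = 2 ^ 5 by norm_num] at h1
  have h5 := Nat.pow_right_injective le_rfl h1
  have h6 := (Nat.Prime.pow_dvd_iff_le_factorization Nat.prime_two Nat.card_pos.ne').1 h64
  omega

namespace Ctx

variable (K : Ctx H L g) {M : Subgroup G} [hMn : M.Normal] (hM2 : M.index = 2) (hzM : K.z ∉ M)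
include K hM2 hzM

theorem eq_one_of_odd {k : ℕ} (φ : centralizer ({(K.loc hM2 hzM).j uP} : Set M) ≃* DihedralGroup k)
    (x : centralizer ({(K.loc hM2 hzM).j uP} : Set M)) (hx : Odd (orderOf x)) : x = 1 := by
  let E := K.loc hM2 hzM
  let C := centralizer ({(K.loc hM2 hzM).j uP} : Set M)
  have mk : ∀ a, a * uP = uP * a → E.j a ∈ C := fun a ha =>
    mem_centralizer_singleton_iff.2 (by rw [← map_mul, ← map_mul, ha])
  obtain ⟨i, hi⟩ := dihedral_odd_rot hx (show φ x ^ orderOf x = 1 by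
    rw [← map_pow, pow_orderOf_eq_one, map_one])
  set vC : C := ⟨E.j vP, mk _ (mem_D8.1 vP_mem)⟩
  set sC : C := ⟨E.j sP, mk _ (mem_D8.1 sP_mem)⟩
  -- `v` inverts `x`
  obtain ⟨j, hj⟩ : ∃ j, φ vC = DihedralGroup.sr j := by
    rcases hv : φ vC with j | j
    · exfalso
      have hc : vC * sC = sC * vC := φ.injective (by
        rw [map_mul, map_mul, hv]
        have h2 : vC * vC = 1 :=
          Subtype.ext ((map_mul E.j vP vP).symm.trans (by rw [uP_facts.2.2.1, map_one]; rfl))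
        have hjj : j + j = 0 := by
          have h3 := congrArg φ h2
          rw [map_mul, map_one, hv, DihedralGroup.r_mul_r, DihedralGroup.one_def] at h3
          exact DihedralGroup.r.inj h3
        rcases φ sC with b | b
        · rw [DihedralGroup.r_mul_r, DihedralGroup.r_mul_r, add_comm]
        · rw [DihedralGroup.r_mul_sr, DihedralGroup.sr_mul_r, DihedralGroup.sr.injEq]
          linear_combination -hjj)
      exact absurd (E.inj (by rw [map_mul, map_mul]; exact congrArg Subtype.val hc))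
        (by decide +kernel : vP * sP ≠ sP * vP)
    · exact ⟨j, rfl⟩
  have hvx : vC * x * vC⁻¹ = x⁻¹ := φ.injective (by
    rw [map_mul, map_mul, map_inv, map_inv, hj, hi, DihedralGroup.inv_sr,
      DihedralGroup.sr_mul_r, DihedralGroup.sr_mul_sr, DihedralGroup.inv_r]
    congr 1
    ring)
  -- pass to the whole group
  obtain ⟨⟨y, hyM⟩, hy⟩ := x
  have hyu : y * K.j uP = K.j uP * y := congrArg Subtype.val (mem_centralizer_singleton_iff.1 hy)
  have hvy : K.j vP * y * (K.j vP)⁻¹ = y⁻¹ :=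
    congrArg (fun w : C => ((w : M) : G)) hvx
  set m := orderOf (⟨⟨y, hyM⟩, hy⟩ : C) with hm
  have hym : y ^ m = 1 := by
    have e := pow_orderOf_eq_one (⟨⟨y, hyM⟩, hy⟩ : C)
    exact congrArg (fun w : C => ((w : M) : G)) e
  have hzu : K.z * K.j uP = K.j uP * K.z := (K.z_comm uP).symm
  have hwM : K.z * y * K.z ∈ M := by
    have := hMn.conj_mem y hyM K.z
    rwa [K.toCoord.z_inv] at this
  have hwu : K.z * y * K.z * K.j uP = K.j uP * (K.z * y * K.z) := by
    calc K.z * y * K.z * K.j uP = K.z * y * (K.z * K.j uP) := by group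
      _ = K.z * (y * K.j uP) * K.z := by rw [hzu]; group
      _ = K.z * K.j uP * y * K.z := by rw [hyu]; group
      _ = _ := by rw [hzu]; group
  set wC : C := ⟨⟨_, hwM⟩, mem_centralizer_singleton_iff.2 (Subtype.ext hwu)⟩
  have hwm : (K.z * y * K.z) ^ m = 1 := by
    have e : K.z * y * K.z = K.z * y * K.z⁻¹ := by rw [K.toCoord.z_inv]
    rw [e, conj_pow, hym, mul_one, mul_inv_cancel]
  obtain ⟨i', hi'⟩ := dihedral_odd_rot hx (show φ wC ^ m = 1 by
    rw [← map_pow, ← map_one φ]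
    exact congrArg φ (Subtype.ext (Subtype.ext hwm)))
  have hcom : y * (K.z * y * K.z) = K.z * y * K.z * y := by
    have hc : (⟨⟨y, hyM⟩, hy⟩ : C) * wC = wC * ⟨⟨y, hyM⟩, hy⟩ := φ.injective (by
      rw [map_mul, map_mul, hi, hi', DihedralGroup.r_mul_r, DihedralGroup.r_mul_r, add_comm])
    exact congrArg (fun w : C => ((w : M) : G)) hc
  -- `z` inverts `y`
  set p := y * (K.z * y * K.z) with hp
  have hpz : p * K.z = K.z * p := by
    conv_rhs => rw [hcom]
    rw [hp]
    calc y * (K.z * y * K.z) * K.z = y * (K.z * y) * (K.z * K.z) := by group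
      _ = y * (K.z * y) := by rw [K.z_sq, mul_one]
      _ = (K.z * K.z) * (y * (K.z * y)) := by rw [K.z_sq, one_mul]
      _ = K.z * (K.z * y * K.z * y) := by group
  obtain ⟨a, ha⟩ := K.exists_of_mem hM2 hzM (K.toCoord.mem_H_of_comm K.hyp hpz) (mul_mem hyM hwM)
  have hau : a * uP = uP * a := K.inj (by
    rw [map_mul, map_mul, ha, hp]
    calc y * (K.z * y * K.z) * K.j uP = y * (K.z * y * K.z * K.j uP) := by group
      _ = y * K.j uP * (K.z * y * K.z) := by rw [hwu]; group
      _ = K.j uP * y * (K.z * y * K.z) := by rw [hyu]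
      _ = _ := by group)
  have ha1 : a = 1 := eq_one_of_four hx (K.inj (by
      rw [map_pow, map_one, ha, hp, (show Commute y _ from hcom).mul_pow, hym, hwm, one_mul]))
    (cent_involution a uP uP_facts.1 uP_facts.2.1 hau)
  rw [ha1, map_one] at ha
  have hzy : K.z * y * K.z = y⁻¹ := eq_inv_of_mul_eq_one_right ha.symm
  -- `y` centralizes a conjugate of `z`
  obtain ⟨k', hk⟩ := K.toCoord.conj_VType_z K.hyp (Or.inl rfl : VType vP)
  have hvz : y * (K.j vP * K.z) = K.j vP * K.z * y := by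
    calc y * (K.j vP * K.z) = y * K.j vP * K.z := by group
      _ = K.j vP * y⁻¹ * K.z := by
        rw [← hvy]
        have hv2 : K.j vP * K.j vP = 1 := by rw [← map_mul, uP_facts.2.2.1, map_one]
        have hvi : (K.j vP)⁻¹ = K.j vP := inv_eq_of_mul_eq_one_right hv2
        rw [hvi, ← mul_assoc, ← mul_assoc, hv2, one_mul]
      _ = K.j vP * (K.z * y * K.z) * K.z := by rw [hzy]
      _ = K.j vP * K.z * y := by rw [mul_assoc, K.toCoord.mul_z_mul_z, mul_assoc]
  have hconj : ∀ q : G, q * (K.j vP * K.z) = K.j vP * K.z * q →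
      k'⁻¹ * q * k' * K.z = K.z * (k'⁻¹ * q * k') := by
    intro q hq
    rw [← hk] at hq
    calc k'⁻¹ * q * k' * K.z = k'⁻¹ * (q * (k' * K.z * k'⁻¹)) * k' := by group
      _ = k'⁻¹ * (k' * K.z * k'⁻¹ * q) * k' := by rw [hq]
      _ = _ := by group
  have hcM : ∀ q ∈ M, k'⁻¹ * q * k' ∈ M := fun q hq => by
    simpa using hMn.conj_mem q hq k'⁻¹
  have hu' : K.j uP * (K.j vP * K.z) = K.j vP * K.z * K.j uP := by
    rw [← mul_assoc, ← map_mul, uP_facts.2.2.2.2.2.1, map_mul, mul_assoc, ← hzu, mul_assoc]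
  obtain ⟨b, hb⟩ := K.exists_of_mem hM2 hzM
    (K.toCoord.mem_H_of_comm K.hyp (hconj y hvz)) (hcM y hyM)
  obtain ⟨d, hd⟩ := K.exists_of_mem hM2 hzM
    (K.toCoord.mem_H_of_comm K.hyp (hconj _ hu')) (hcM _ (K.j_mem hM2 hzM uP))
  have hd2 : d * d = 1 := K.inj (by
    rw [map_mul, map_one, hd,
      show k'⁻¹ * K.j uP * k' * (k'⁻¹ * K.j uP * k') = k'⁻¹ * (K.j uP * K.j uP) * k' by group,
      ← map_mul, uP_facts.1, map_one, mul_one, inv_mul_cancel])
  have hd1 : d ≠ 1 := fun e => by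
    rw [e, map_one] at hd
    refine uP_facts.2.1 (K.inj ?_)
    rw [map_one, show K.j uP = k' * (k'⁻¹ * K.j uP * k') * k'⁻¹ by group, ← hd]
    group
  have hbd : b * d = d * b := K.inj (by
    rw [map_mul, map_mul, hb, hd,
      show k'⁻¹ * y * k' * (k'⁻¹ * K.j uP * k') = k'⁻¹ * (y * K.j uP) * k' by group, hyu]
    group)
  have hb1 : b = 1 := eq_one_of_four hx (K.inj (by
      rw [map_pow, map_one, hb]
      calc (k'⁻¹ * y * k') ^ m = (k'⁻¹ * y * k'⁻¹⁻¹) ^ m := by rw [inv_inv]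
        _ = k'⁻¹ * y ^ m * k'⁻¹⁻¹ := conj_pow
        _ = 1 := by rw [hym]; group))
    (cent_involution b d hd2 hd1 hbd)
  rw [hb1, map_one] at hb
  refine Subtype.ext (Subtype.ext ?_)
  show y = 1
  rw [show y = k' * (k'⁻¹ * y * k') * k'⁻¹ by group, ← hb]
  group

/-- The residual is not `PSL(2, q)`. -/
theorem false_of_psl {F : Type} [Field F] [Fintype F] (hodd : Odd (Fintype.card F))
    (f : M ≃* Matrix.ProjectiveSpecialLinearGroup (Fin 2) F) : False := by
  haveI : Fact (Nat.Prime 2) := ⟨Nat.prime_two⟩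
  let E := K.loc hM2 hzM
  have hu2 : orderOf (f (E.j uP)) = 2 := by
    rw [f.orderOf_eq, orderOf_injective E.j E.inj]
    exact orderOf_eq_prime (by rw [pow_two]; exact uP_facts.1) uP_facts.2.1
  set C := centralizer ({E.j uP} : Set M) with hC
  have hmap : C.map f.toMonoidHom = centralizer {f (E.j uP)} := by
    ext w
    simp only [hC, Subgroup.mem_map, mem_centralizer_singleton_iff, MulEquiv.coe_toMonoidHom]
    constructor
    · rintro ⟨v, hv, rfl⟩; rw [← map_mul, ← map_mul, hv]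
    · intro hw
      obtain ⟨v, rfl⟩ := f.surjective w
      exact ⟨v, f.injective (by rw [map_mul, map_mul, hw]), rfl⟩
  let eC := (C.equivMapOfInjective f.toMonoidHom f.injective).trans (MulEquiv.subgroupCongr hmap)
  obtain ⟨k, ⟨φ⟩⟩ := exists_dihedral_centralizer hodd hu2
  have hp : IsPGroup 2 C := by
    intro x
    obtain ⟨a, m, hm, hxm⟩ := Nat.exists_eq_two_pow_mul_odd (orderOf_pos x).ne'
    refine ⟨a, K.eq_one_of_odd hM2 hzM (eC.trans φ) _ ?_⟩
    refine hm.of_dvd_nat (orderOf_dvd_of_pow_eq_one ?_)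
    rw [← pow_mul, ← hxm, pow_orderOf_eq_one]
  obtain ⟨SM, hSM⟩ := E.exists_sylow
  have hle : (SM : Subgroup M) ≤ C := fun s hs =>
    mem_centralizer_singleton_iff.2 (E.commute_uP hSM hs)
  have heq : C = (SM : Subgroup M) := SM.is_maximal' hp hle
  have h16 : Nat.card C = 16 := by
    rw [heq]
    obtain ⟨e, he⟩ := IsPGroup.iff_card.1 SM.isPGroup'
    have d1 : 2 ^ 4 ∣ Nat.card (SM : Subgroup M) :=
      SM.pow_dvd_card_of_pow_dvd_card (K.sixteen_dvd hM2 hzM)
    obtain ⟨p, hp'⟩ := K.exists_sylow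
    have h32 := not_sixtyfour hM2 (p := p)
      (by rw [hp', K.toCoord.card_normalizer_L K.hyp])
    rw [he] at d1 ⊢
    have e1 := (Nat.pow_dvd_pow_iff_le_right (by norm_num : 1 < 2)).1 d1
    have e2 : e < 5 := by
      by_contra hc
      refine h32 (dvd_trans ?_ (card_subgroup_dvd_card (SM : Subgroup M)))
      rw [he, show (32 : ℕ) = 2 ^ 5 by norm_num]
      exact pow_dvd_pow 2 (by omega)
    rw [show e = 4 by omega]
    norm_num
  have hq := CfsgLib.PSL2.card_centralizer_involution hodd hu2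
  rw [← Nat.card_congr eC.toEquiv, h16] at hq
  have h17 : Fintype.card F = 17 := by
    split_ifs at hq
    · omega
    · exfalso
      obtain ⟨p, hp⟩ := CharP.exists F
      obtain ⟨n, hpp, hn⟩ := FiniteField.card F p
      have h15 : p ^ (n : ℕ) = 15 := by omega
      have h3 : 3 ∣ p := Nat.prime_three.dvd_of_dvd_pow (h15 ▸ (by norm_num) : 3 ∣ p ^ (n : ℕ))
      have h5 : 5 ∣ p :=
        Nat.prime_five.dvd_of_dvd_pow (h15 ▸ (by norm_num) : 5 ∣ p ^ (n : ℕ))
      have e3 := (Nat.prime_dvd_prime_iff_eq Nat.prime_three hpp).1 h3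
      have e5 := (Nat.prime_dvd_prime_iff_eq Nat.prime_five hpp).1 h5
      omega
  let ε : MulAut M := MulAut.conjNormal K.z
  let β : MulAut (Matrix.ProjectiveSpecialLinearGroup (Fin 2) F) := MulAut.congr f ε
  have hε : ∀ m : M, (ε m : G) = K.z * m * K.z⁻¹ := fun m => MulAut.conjNormal_apply _ _
  refine false_of_fixed h17 (β := β) ?_ ?_ (f.toMonoidHom.comp E.j)
    (f.injective.comp E.inj) fun a => ?_
  · rw [← map_mul, ← map_mul, K.z_sq, map_one, map_one]
  · intro e
    have e1 : ε = 1 := (MulAut.congr f).injective (by rw [map_one]; exact e)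
    have hz : K.z ∈ centralizer (M : Set G) := mem_centralizer_iff.2 fun m hm => by
      have := hε ⟨m, hm⟩
      rw [e1] at this
      exact (mul_inv_eq_iff_eq_mul.1 this.symm).symm
    rw [K.centralizer_eq_bot hM2 hzM, mem_bot] at hz
    exact K.toCoord.z_ne_one hz
  · show f (ε (f.symm (f (E.j a)))) = f (E.j a)
    rw [f.symm_apply_apply]
    refine congrArg f (Subtype.ext ?_)
    rw [hε]
    show K.z * K.j a * K.z⁻¹ = K.j a
    rw [← K.z_comm, mul_inv_cancel_right]

end Ctx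

end CfsgLib.Suborbit3.Times
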