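import Cfsg.Agent.Lib.Suborbit3.Times.Setup

/-!
# Stabilizer `S₄ × 2`: the normalizer of `L`
-/

set_option autoImplicit false
set_option linter.style.haveILetI false
set_option linter.unusedSectionVars false

namespace CfsgLib.Suborbit3.Times

open Subgroup Equiv CfsgLib.Recognition.SubdegThree CfsgLib.Suborbit3.Four

variable {G : Type*} [Group G] [Finite G] {H L : Subgroup G} {g : G}
variable (h : Hyp H L g) (C : Coord H L)

/-- The four-group. -/
def Coord.V : Subgroup G := V4.map C.j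

include h C

theorem Coord.cent_z : centralizer ({C.z} : Set G) = H := by
  have hc : ∀ x ∈ H, x * C.z = C.z * x := by
    intro x hx
    obtain ⟨a, e | e⟩ := C.cases x hx <;> subst e
    · exact C.z_comm a
    · rw [← mul_assoc C.z, ← C.z_comm]
  refine le_antisymm ?_ fun x hx => mem_centralizer_singleton_iff.2 (hc x hx)
  rw [← centralizer_closure, ← zpowers_eq_closure]
  refine h.normalizer_le (zpowers_le.2 C.z_mem) (zpowers_ne_bot.2 C.z_ne_one) fun x hx => ?_
  refine mem_normalizer_of_conj fun y hy => ?_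
  obtain ⟨i, rfl⟩ := mem_zpowers_iff.1 hy
  rw [show x * C.z ^ i * x⁻¹ = C.z ^ i from mul_inv_eq_iff_eq_mul.2
    ((show Commute x C.z from hc x hx).zpow_right i).eq]
  exact hy

theorem Coord.mem_H_of_comm {x : G} (e : x * C.z = C.z * x) : x ∈ H := by
  rw [← C.cent_z h]; exact mem_centralizer_singleton_iff.2 e

theorem Coord.mem_H_of_fix {x : G} (e : x * C.z * x⁻¹ = C.z) : x ∈ H :=
  C.mem_H_of_comm h (mul_inv_eq_iff_eq_mul.1 e)

theorem Coord.normalizer_V : normalizer (C.V : Set G) = H := by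
  refine h.normalizer_eq (by rintro _ ⟨a, -, rfl⟩; exact C.mem a) ?_ ?_
  · intro e
    rw [Coord.V, map_eq_bot_iff_of_injective _ C.inj] at e
    have h4 := card_V4
    rw [e, card_bot] at h4
    omega
  · intro x hx
    refine mem_normalizer_of_conj ?_
    rintro _ ⟨b, hb, rfl⟩
    obtain ⟨a, e | e⟩ := C.cases x hx <;> subst e
    · exact ⟨a * b * a⁻¹, Normal.conj_mem inferInstance b hb a, by simp [map_mul, map_inv]⟩
    · refine ⟨a * b * a⁻¹, Normal.conj_mem inferInstance b hb a, ?_⟩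
      rw [map_mul, map_mul, map_inv, show C.j a * C.z * C.j b * (C.j a * C.z)⁻¹ =
        C.j a * (C.z * C.j b * C.z⁻¹) * (C.j a)⁻¹ by group, ← C.z_comm, mul_inv_cancel_right]

theorem Coord.mem_of_comm_uv {x : G} (hu : x * C.j uP = C.j uP * x) (hv : x * C.j vP = C.j vP * x) :
    x ∈ H := by
  rw [← C.normalizer_V h]
  refine mem_normalizer_of_conj ?_
  rintro _ ⟨b, hb, rfl⟩
  have hcomm : Commute x (C.j b) := by
    rcases V4_cases b (mem_V4.1 hb).1 (mem_V4.1 hb).2 with rfl | rfl | rfl | rfl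
    · rw [map_one]; exact Commute.one_right x
    · exact hu
    · exact hv
    · rw [map_mul]; exact (show Commute x (C.j uP) from hu).mul_right hv
  rw [hcomm.eq, mul_inv_cancel_right]
  exact mem_map_of_mem _ hb

theorem Coord.card_L : Nat.card L = 16 := by
  have h1 := h.card_H
  rw [C.card_H] at h1
  omega

theorem Coord.fix_uP {b : G} (hb : b ∈ normalizer (L : Set G)) :
    b * C.j uP * b⁻¹ = C.j uP := by
  obtain ⟨r, hr, hrr⟩ := exists_root
  obtain ⟨a, ha, e⟩ := C.cases_L h.data.hLH ((mem_normalizer_iff.1 hb _).1 ((C.memL r).2 hr))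
  have e2 : b * C.j uP * b⁻¹ = C.j (a * a) := by
    rw [← hrr, map_mul, ← conj_mul]
    rcases e with e | e <;> rw [e]
    · rw [map_mul]
    · rw [C.mul_mul]
  rcases sq_D8 a ha with h1 | h1 <;> rw [h1] at e2
  · rw [map_one, conj_eq_one_iff] at e2
    exact absurd (C.inj (e2.trans C.j.map_one.symm)) uP_facts.2.1
  · exact e2

theorem Coord.conj_z {b : G} (hb : b ∈ normalizer (L : Set G)) :
    b * C.z * b⁻¹ = C.z ∨ b * C.z * b⁻¹ = C.j uP * C.z := by
  obtain ⟨a, ha, e⟩ := C.cases_L h.data.hLH ((mem_normalizer_iff.1 hb _).1 C.zL)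
  have hc : ∀ c, c * uP = uP * c → a * c = c * a := by
    intro c hc
    have hy : b⁻¹ * C.j c * b ∈ L := (mem_normalizer_iff.1 hb _).2 (by
      rw [show b * (b⁻¹ * C.j c * b) * b⁻¹ = C.j c by group]; exact (C.memL c).2 hc)
    have hcz := mem_centralizer_singleton_iff.1 ((C.cent_z h).ge (h.data.hLH hy))
    have h2 : b * C.z * b⁻¹ * C.j c = C.j c * (b * C.z * b⁻¹) := by
      calc b * C.z * b⁻¹ * C.j c = b * (C.z * (b⁻¹ * C.j c * b)) * b⁻¹ := by group
        _ = b * (b⁻¹ * C.j c * b * C.z) * b⁻¹ := by rw [hcz]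
        _ = _ := by group
    rcases e with e | e <;> rw [e] at h2
    · exact C.inj (by rw [map_mul, map_mul]; exact h2)
    · refine C.inj (mul_right_cancel (b := C.z) ?_)
      rw [map_mul, map_mul, mul_assoc, C.z_comm c, ← mul_assoc, h2, ← mul_assoc]
  rcases central_D8 a ha (hc _ (mem_D8.1 vP_mem)) (hc _ (mem_D8.1 sP_mem)) with rfl | rfl
  · rcases e with e | e
    · rw [map_one] at e; exact absurd (conj_eq_one_iff.1 e) C.z_ne_one
    · rw [map_one, one_mul] at e; exact Or.inl e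
  · rcases e with e | e
    · rw [← C.fix_uP h hb] at e
      exact absurd (mul_left_cancel (mul_right_cancel e)).symm (C.z_not _)
    · exact Or.inr e

theorem Coord.normalizer_L_inf : normalizer (L : Set G) ⊓ H = L := by
  rcases h.data.eq_of_lt (le_inf le_normalizer h.data.hLH)
    (inf_le_right : normalizer (L : Set G) ⊓ H ≤ H) with e | e
  · exact e
  · exfalso
    refine h.data.hgH ?_
    rw [← h.normalizer_eq h.data.hLH ?_ (inf_eq_right.1 e)]
    · exact h.data.hg
    · intro e'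
      have h8 := C.card_L h
      rw [e', card_bot] at h8
      omega

theorem Coord.mem_L_of_fix {b : G} (hb : b ∈ normalizer (L : Set G))
    (e : b * C.z * b⁻¹ = C.z) : b ∈ L :=
  (C.normalizer_L_inf h).le ⟨hb, C.mem_H_of_fix h e⟩

theorem Coord.conj_z_out {b : G} (hb : b ∈ normalizer (L : Set G)) (hbL : b ∉ L) :
    b * C.z * b⁻¹ = C.j uP * C.z :=
  (C.conj_z h hb).resolve_left fun e => hbL (C.mem_L_of_fix h hb e)

theorem Coord.g_not_mem : g ∉ L := fun e => h.data.hgH (h.data.hLH e)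

theorem Coord.mul_out {b c : G} (hb : b ∈ normalizer (L : Set G)) (hbL : b ∉ L)
    (hc : c ∈ normalizer (L : Set G)) (hcL : c ∉ L) : b * c ∈ L := by
  refine C.mem_L_of_fix h (mul_mem hb hc) ?_
  rw [show b * c * C.z * (b * c)⁻¹ = b * (c * C.z * c⁻¹) * b⁻¹ by group, C.conj_z_out h hc hcL,
    ← conj_mul, C.fix_uP h hb, C.conj_z_out h hb hbL, ← mul_assoc, ← map_mul, uP_facts.1, map_one,
    one_mul]

theorem Coord.index_L : (L.subgroupOf (normalizer (L : Set G))).index = 2 := by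
  refine index_eq_two_iff.2 ⟨⟨g, h.data.hg⟩, fun b => ?_⟩
  by_cases hb : (b : G) ∈ L
  · exact Or.inr ⟨hb, fun hbg => C.g_not_mem h ((L.mul_mem_cancel_left hb).1 hbg)⟩
  · exact Or.inl ⟨C.mul_out h b.2 hb h.data.hg (C.g_not_mem h), hb⟩

theorem Coord.card_normalizer_L : Nat.card (normalizer (L : Set G)) = 32 := by
  have h1 := (L.subgroupOf (normalizer (L : Set G))).card_mul_index
  rw [C.index_L h, Nat.card_congr (subgroupOfEquivOfLe le_normalizer).toEquiv, C.card_L h] at h1
  omega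

/-- The involutions `z` and `u` are not conjugate. -/
theorem Coord.not_conj_u (k : G) : k * C.z * k⁻¹ ≠ C.j uP := by
  intro e
  have hle : normalizer (L : Set G) ≤ H.map (MulAut.conj k).toMonoidHom := by
    intro b hb
    refine ⟨k⁻¹ * b * k, C.mem_H_of_comm h ?_, by
      simp only [MulEquiv.coe_toMonoidHom, MulAut.conj_apply]; group⟩
    calc k⁻¹ * b * k * C.z = k⁻¹ * (b * (k * C.z * k⁻¹)) * k := by group
      _ = k⁻¹ * (k * C.z * k⁻¹ * b) * k := by
        rw [e, mul_inv_eq_iff_eq_mul.1 (C.fix_uP h hb)]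
      _ = C.z * (k⁻¹ * b * k) := by group
  have hd := card_dvd_of_le hle
  rw [C.card_normalizer_L h, card_map_of_injective (MulAut.conj k).injective, C.card_H] at hd
  norm_num at hd

theorem Coord.conj_VType_z {a : Perm (Fin 4)} (ha : VType a) :
    ∃ k : G, k * C.z * k⁻¹ = C.j a * C.z := by
  obtain ⟨c, hc⟩ := uP_conj a ha
  refine ⟨C.j c * g, ?_⟩
  rw [show C.j c * g * C.z * (C.j c * g)⁻¹ = C.j c * (g * C.z * g⁻¹) * (C.j c)⁻¹ by group,
    C.conj_z_out h h.data.hg (C.g_not_mem h), ← conj_mul, ← hc, map_mul, map_mul, map_inv,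
    mul_inv_eq_iff_eq_mul.2 (C.z_comm c)]

theorem Coord.conj_v_cases {b : G} (hb : b ∈ normalizer (L : Set G)) (hbL : b ∉ L) :
    ∃ c, SType c ∧ (b * C.j vP * b⁻¹ = C.j c ∨ b * C.j vP * b⁻¹ = C.j c * C.z) := by
  obtain ⟨a, ha, e⟩ := C.cases_L h.data.hLH
    ((mem_normalizer_iff.1 hb _).1 ((C.memL vP).2 (mem_D8.1 vP_mem)))
  have ha2 : a * a = 1 := by
    refine C.inj ?_
    rw [map_one]
    rcases e with e | e
    · rw [map_mul, ← e, conj_mul, ← map_mul, uP_facts.2.2.1, map_one, mul_one, mul_inv_cancel]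
    · rw [← C.mul_mul, ← e, conj_mul, ← map_mul, uP_facts.2.2.1, map_one, mul_one, mul_inv_cancel]
  have hbH : b ∉ H := fun hH => hbL ((C.normalizer_L_inf h).le ⟨hb, hH⟩)
  obtain ⟨c, hc⟩ := uP_conj vP (Or.inl rfl)
  have hz : ∀ k : G, b * C.j vP * b⁻¹ ≠ k * C.z * k⁻¹ := by
    intro k hk
    refine C.not_conj_u h ((C.j c)⁻¹ * b⁻¹ * k) ?_
    rw [← hc, map_mul, map_mul, map_inv] at hk
    calc (C.j c)⁻¹ * b⁻¹ * k * C.z * ((C.j c)⁻¹ * b⁻¹ * k)⁻¹ =
        (C.j c)⁻¹ * b⁻¹ * (k * C.z * k⁻¹) * b * C.j c := by group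
      _ = C.j uP := by rw [← hk]; group
  rcases inv_cases a ha ha2 with h1 | h1 | h1
  · exfalso
    rcases h1 with rfl | rfl <;> rcases e with e | e
    · rw [map_one, conj_eq_one_iff] at e
      exact uP_facts.2.2.2.1 (C.inj (e.trans C.j.map_one.symm))
    · rw [map_one, one_mul] at e
      exact hz 1 (by rw [e]; group)
    · rw [← C.fix_uP h hb] at e
      exact uP_facts.2.2.2.2.1 (C.inj (mul_left_cancel (mul_right_cancel e))).symm
    · exact hz g (by rw [e, C.conj_z_out h h.data.hg (C.g_not_mem h)])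
  · exfalso
    rcases e with e | e
    · refine hbH ((C.normalizer_V h).le (mem_normalizer_of_conj ?_))
      have hu' : b * C.j uP * b⁻¹ ∈ C.V := by
        rw [C.fix_uP h hb]
        exact mem_map_of_mem _ (mem_V4.2 ⟨rfl, uP_facts.2.2.2.2.2.1⟩)
      have hv' : b * C.j vP * b⁻¹ ∈ C.V := by
        rw [e]
        exact mem_map_of_mem _ (mem_V4.2 (VType_mem a h1))
      rintro _ ⟨d, hd, rfl⟩
      rcases V4_cases d (mem_V4.1 hd).1 (mem_V4.1 hd).2 with rfl | rfl | rfl | rfl
      · simpa using one_mem C.V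
      · exact hu'
      · exact hv'
      · rw [map_mul, ← conj_mul]; exact mul_mem hu' hv'
    · obtain ⟨k, hk⟩ := C.conj_VType_z h h1
      exact hz k (e.trans hk.symm)
  · exact ⟨a, h1, e⟩

end CfsgLib.Suborbit3.Times
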