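import Cfsg.Agent.Lib.Suborbit3.Four.Perm

/-!
# The outer automorphisms of the dihedral group of order 8 exchanging the four-groups
-/

set_option autoImplicit false

namespace CfsgLib.Suborbit3.Times

open Equiv CfsgLib.Suborbit3.Four

/-- Possible images of `(01)(23)`. -/
def SType (c : Perm (Fin 4)) : Prop := c = sP ∨ c = uP * sP

/-- Possible images of `(02)`. -/
def VType (c : Perm (Fin 4)) : Prop := c = vP ∨ c = uP * vP

instance : DecidablePred SType := fun _ => inferInstanceAs (Decidable (_ ∨ _))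

instance : DecidablePred VType := fun _ => inferInstanceAs (Decidable (_ ∨ _))

/-- The map on `D8` fixing `uP` with prescribed images of `vP` and `sP`. -/
def img (c₁ c₂ a : Perm (Fin 4)) : Perm (Fin 4) :=
  if a = uP then uP else if a = vP then c₁ else if a = uP * vP then uP * c₁
  else if a = sP then c₂ else if a = uP * sP then uP * c₂
  else if a = vP * sP then c₁ * c₂ else if a = uP * (vP * sP) then uP * (c₁ * c₂) else a

theorem D8_cases : ∀ a : Perm (Fin 4), a * uP = uP * a →
    a = 1 ∨ a = uP ∨ a = vP ∨ a = uP * vP ∨ a = sP ∨ a = uP * sP ∨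
      a = vP * sP ∨ a = uP * (vP * sP) := by decide +kernel

theorem img_values : ∀ c₁ c₂ : Perm (Fin 4),
    img c₁ c₂ 1 = 1 ∧ img c₁ c₂ uP = uP ∧ img c₁ c₂ vP = c₁ ∧ img c₁ c₂ (uP * vP) = uP * c₁ ∧
      img c₁ c₂ sP = c₂ ∧ img c₁ c₂ (uP * sP) = uP * c₂ ∧
      img c₁ c₂ (vP * sP) = c₁ * c₂ ∧ img c₁ c₂ (uP * (vP * sP)) = uP * (c₁ * c₂) := by
  decide +kernel

theorem img_mem : ∀ c₁ c₂ a : Perm (Fin 4), SType c₁ → VType c₂ → a * uP = uP * a →
    img c₁ c₂ a * uP = uP * img c₁ c₂ a := by decide +kernel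

/-- The square of an element outside `L` lies in the dihedral group. -/
theorem no_twisted_square : ∀ c₁ c₂ d : Perm (Fin 4), SType c₁ → VType c₂ → d * uP = uP * d →
    img c₁ c₂ d = d * uP → img c₁ c₂ (img c₁ c₂ vP) = d * vP * d⁻¹ → False := by decide +kernel

/-- At most one of two cosets contains involutions. -/
theorem no_two_involutions : ∀ c₁ c₂ d : Perm (Fin 4), SType c₁ → VType c₂ → d * uP = uP * d →
    img c₁ c₂ (img c₁ c₂ vP) = vP → img c₁ c₂ d * d * uP = 1 → False := by decide +kernel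

/-- An outer element fixes no noncentral `a * z`. -/

theorem fixed_noncentral : ∀ c₁ c₂ a : Perm (Fin 4), SType c₁ → VType c₂ → a * uP = uP * a →
    a * a = 1 → img c₁ c₂ a * uP = a → False := by decide +kernel

theorem SType_conj : ∀ a c : Perm (Fin 4), a * uP = uP * a → SType c →
    SType (a * c * a⁻¹) := by decide +kernel

theorem SType_facts : ∀ c : Perm (Fin 4), SType c → c * uP = uP * c ∧ c * c = 1 ∧
    c * vP ≠ vP * c ∧ ¬ (c = vP ∨ c = uP * vP) ∧ c ≠ 1 ∧ c ≠ uP := by decide +kernel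

theorem sq_D8 : ∀ a : Perm (Fin 4), a * uP = uP * a → a * a = 1 ∨ a * a = uP := by decide +kernel

theorem exists_root : ∃ r : Perm (Fin 4), r * uP = uP * r ∧ r * r = uP := by decide +kernel

theorem central_D8 : ∀ a : Perm (Fin 4), a * uP = uP * a → a * vP = vP * a → a * sP = sP * a →
    a = 1 ∨ a = uP := by decide +kernel

theorem cent_involution : ∀ a b : Perm (Fin 4), b * b = 1 → b ≠ 1 → a * b = b * a →
    a * a * (a * a) = 1 := by decide +kernel

theorem center_perm : ∀ a : Perm (Fin 4), a * uP = uP * a → a * vP = vP * a → a * sP = sP * a →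
    a * swap 0 1 = swap 0 1 * a → a = 1 := by decide +kernel

theorem sign_facts : Perm.sign uP = 1 ∧ Perm.sign vP = 1 ∧ Perm.sign sP = -1 := by decide +kernel

end CfsgLib.Suborbit3.Times

namespace CfsgLib.Suborbit3.Times

open Equiv CfsgLib.Suborbit3.Four

theorem uP_conj : ∀ a : Perm (Fin 4), VType a → ∃ c : Perm (Fin 4), c * uP * c⁻¹ = a := by
  decide +kernel

theorem inv_cases : ∀ a : Perm (Fin 4), a * uP = uP * a → a * a = 1 →
    (a = 1 ∨ a = uP) ∨ VType a ∨ SType a := by decide +kernel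

theorem VType_mem : ∀ a : Perm (Fin 4), VType a → a * uP = uP * a ∧ a * vP = vP * a := by
  decide +kernel

end CfsgLib.Suborbit3.Times

namespace CfsgLib.Suborbit3.Times

open Equiv CfsgLib.Suborbit3.Four

theorem VType_conj : ∀ a : Perm (Fin 4), a * uP = uP * a → VType (a * vP * a⁻¹) := by
  decide +kernel

theorem VType_mul : ∀ a : Perm (Fin 4), VType a → VType (uP * a) := by decide +kernel

theorem SType_sign : ∀ c : Perm (Fin 4), SType c → Perm.sign c = -1 := by decide +kernel

theorem SType_vP : ∀ c : Perm (Fin 4), SType c → ∃ e : Perm (Fin 4), (e = 1 ∨ e = uP) ∧ c = e * sP := by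
  decide +kernel

theorem D8_invol : ∀ a : Perm (Fin 4), a * uP = uP * a → a * a = 1 → a = 1 ∨ a = uP ∨
    VType a ∨ SType a := by decide +kernel

end CfsgLib.Suborbit3.Times
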