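import Cfsg.Agent.Lib.Suborbit3.Times.Square
import Cfsg.Agent.Lib.Suborbit3.Four.Case

/-!
# Stabilizer `S₄ × 2`: the normal subgroup of index two
-/

set_option autoImplicit false
set_option linter.style.haveILetI false
set_option linter.unusedSectionVars false

namespace CfsgLib.Suborbit3.Times

open Subgroup Equiv CfsgLib.Recognition.SubdegThree CfsgLib.Suborbit3.Four

variable {G : Type*} [Group G] [Finite G] {H L : Subgroup G} {g : G}

namespace Ctx

variable (K : Ctx H L g)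
include K

theorem uP_mem_L : K.j uP ∈ L := (K.memL _).2 rfl

theorem not_conj_z {a : Perm (Fin 4)} (ha : a * uP = uP * a) (h2 : a * a = 1) (k : G) :
    k * K.z * k⁻¹ ≠ K.j a := by
  intro e
  rcases inv_cases a ha h2 with (rfl | rfl) | hV | hS
  · rw [map_one, conj_eq_one_iff] at e
    exact K.toCoord.z_ne_one e
  · exact K.toCoord.not_conj_u K.hyp k e
  · obtain ⟨c, rfl⟩ := uP_conj a hV
    refine K.toCoord.not_conj_u K.hyp ((K.j c)⁻¹ * k) ?_
    rw [show (K.j c)⁻¹ * k * K.z * ((K.j c)⁻¹ * k)⁻¹ = (K.j c)⁻¹ * (k * K.z * k⁻¹) * K.j c by group,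
      e, map_mul, map_mul, map_inv]
    group
  · obtain ⟨c₁, c₂, hc₁, hc₂, hi⟩ := K.exists_img K.g_mem K.g_not
    obtain ⟨w, hw, hwa⟩ : ∃ w, VType w ∧ img c₁ c₂ w = a := by
      rcases hc₁ with rfl | rfl <;> rcases hS with rfl | rfl <;>
        first
          | exact ⟨vP, Or.inl rfl, (img_values _ _).2.2.1⟩
          | exact ⟨uP * vP, Or.inr rfl, (img_values _ _).2.2.2.1.trans (by decide +kernel)⟩
    obtain ⟨c, hc⟩ := uP_conj w hw
    refine K.toCoord.not_conj_u K.hyp ((g * K.j c)⁻¹ * k) ?_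
    rw [show (g * K.j c)⁻¹ * k * K.z * ((g * K.j c)⁻¹ * k)⁻¹ =
      (g * K.j c)⁻¹ * (k * K.z * k⁻¹) * (g * K.j c) by group, e, ← hwa, ← hi w (VType_mem w hw).1,
      ← hc, map_mul, map_mul, map_inv]
    group

/-- A normal subgroup of index two avoiding `z`. -/
theorem exists_residual : ∃ M : Subgroup G, M.Normal ∧ M.index = 2 ∧ K.z ∉ M := by
  obtain ⟨ρ, hρ, hρL, hρ2⟩ := K.exists_rho
  obtain ⟨S, hS⟩ := K.exists_sylow
  obtain ⟨e, he, hee⟩ := K.sq_mem hρ hρL
  obtain ⟨c₁, c₂, hc₁, hc₂, hi⟩ := K.exists_img (inv_mem hρ) (fun h => hρL (inv_mem_iff.1 h))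
  have hcomm : ∀ d, d * uP = uP * d → ∃ d', d' * uP = uP * d' ∧ K.j d * ρ = ρ * K.j d' :=
    fun d hd => ⟨_, img_mem c₁ c₂ d hc₁ hc₂ hd, by rw [← hi d hd]; group⟩
  have hmul : ∀ a b : Perm (Fin 4), a * uP = uP * a → b * uP = uP * b → a * b * uP = uP * (a * b) :=
    fun a b ha hb => mem_D8.1 (mul_mem (mem_D8.2 ha) (mem_D8.2 hb))
  let T : Subgroup G :=
    { carrier := {x | ∃ d, d * uP = uP * d ∧ (x = K.j d ∨ x = ρ * K.j d)}
      one_mem' := ⟨1, by simp, Or.inl (by simp)⟩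
      mul_mem' := by
        rintro x y ⟨a, ha, rfl | rfl⟩ ⟨b, hb, rfl | rfl⟩
        · exact ⟨a * b, hmul a b ha hb, Or.inl (map_mul _ _ _).symm⟩
        · obtain ⟨a', ha', e'⟩ := hcomm a ha
          exact ⟨a' * b, hmul a' b ha' hb, Or.inr (by rw [← mul_assoc, e', mul_assoc, map_mul])⟩
        · exact ⟨a * b, hmul a b ha hb, Or.inr (by rw [mul_assoc, map_mul])⟩
        · obtain ⟨a', ha', e'⟩ := hcomm a ha
          refine ⟨e * (a' * b), hmul _ _ he (hmul a' b ha' hb), Or.inl ?_⟩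
          rw [map_mul, map_mul, ← hee, show ρ * K.j a * (ρ * K.j b) = ρ * (K.j a * ρ) * K.j b by
            group, e']
          group
      inv_mem' := by
        rintro x ⟨a, ha, rfl | rfl⟩
        · exact ⟨a⁻¹, mem_D8.1 (inv_mem (mem_D8.2 ha)), Or.inl (map_inv _ _).symm⟩
        · obtain ⟨a', ha', e'⟩ := hcomm (a⁻¹ * e⁻¹)
            (hmul _ _ (mem_D8.1 (inv_mem (mem_D8.2 ha))) (mem_D8.1 (inv_mem (mem_D8.2 he))))
          refine ⟨a', ha', Or.inr ?_⟩
          rw [← e', map_mul, map_inv, map_inv, ← hee]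
          group }
  have hzT : K.z ∉ T := by
    rintro ⟨d, hd, e' | e'⟩
    · exact K.z_not d e'.symm
    · exact K.mul_d_not hρL hd (e' ▸ K.zL)
  refine CfsgLib.Transfer.thompson_transfer S T ?_ K.z (by rw [pow_two]; exact K.z_sq) ?_
  · rw [hS, relIndex, index_eq_two_iff]
    refine ⟨⟨K.z, le_normalizer K.zL⟩, fun b => ?_⟩
    show Xor' ((b : G) * K.z ∈ T) ((b : G) ∈ T)
    by_cases hb : (b : G) ∈ T
    · exact Or.inr ⟨hb, fun hbz => hzT ((T.mul_mem_cancel_left hb).1 hbz)⟩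
    · refine Or.inl ⟨?_, hb⟩
      by_cases hbL : (b : G) ∈ L
      · obtain ⟨d, hd, e' | e'⟩ := K.toCoord.cases_L K.hyp.data.hLH hbL
        · exact absurd ⟨d, hd, Or.inl e'⟩ hb
        · exact ⟨d, hd, Or.inl (by rw [e', K.toCoord.mul_z_mul_z])⟩
      · obtain ⟨d, hd, e' | e'⟩ := K.toCoord.cases_L K.hyp.data.hLH
          (K.toCoord.mul_out K.hyp (inv_mem hρ) (fun h => hρL (inv_mem_iff.1 h)) b.2 hbL)
        · exact absurd ⟨d, hd, Or.inr (by rw [← e', mul_inv_cancel_left])⟩ hb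
        · refine ⟨d, hd, Or.inr ?_⟩
          rw [show K.j d = ρ⁻¹ * (b : G) * K.z by rw [e', K.toCoord.mul_z_mul_z]]
          group
  · intro k _ hkT
    obtain ⟨d, hd, e' | e'⟩ := hkT
    · refine K.not_conj_z hd (K.inj ?_) k e'
      rw [map_mul, map_one, ← e', conj_mul, K.z_sq, mul_one, mul_inv_cancel]
    · refine hρ2 d hd ?_
      rw [← e', conj_mul, K.z_sq, mul_one, mul_inv_cancel]

variable {M : Subgroup G} [hMn : M.Normal] (hM2 : M.index = 2) (hzM : K.z ∉ M)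
include hM2 hzM

theorem mul_z_mem {x : G} (hx : x ∉ M) : x * K.z ∈ M :=
  (mul_mem_iff_of_index_two hM2).2 (iff_of_false hx hzM)

theorem j_mem (a : Perm (Fin 4)) : K.j a ∈ M := by
  haveI := hMn.comap K.j
  have hu : K.j uP ∈ M := by
    obtain ⟨r, -, hr⟩ := exists_root
    rw [← hr, map_mul]
    exact (mul_mem_iff_of_index_two hM2).2 Iff.rfl
  have hv : K.j vP ∈ M := by
    obtain ⟨c, hc⟩ := uP_conj vP (Or.inl rfl)
    rw [← hc, map_mul, map_mul, map_inv]
    exact hMn.conj_mem _ hu _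
  have hs : K.j sP ∈ M := by
    obtain ⟨c, hc, e⟩ := K.swap
    have := hMn.conj_mem _ hv g
    rw [e] at this
    obtain ⟨w, hw | hw, rfl⟩ := SType_vP c hc <;> subst hw
    · simpa using this
    · rw [map_mul] at this
      exact (M.mul_mem_cancel_left hu).1 this
  exact (eq_top_of_sP (N := M.comap K.j) hs).ge (mem_top a)

theorem exists_of_mem {x : G} (hH : x ∈ H) (hx : x ∈ M) : ∃ a, K.j a = x := by
  obtain ⟨a, e | e⟩ := K.cases x hH
  · exact ⟨a, e.symm⟩
  · exact absurd ((M.mul_mem_cancel_left (K.j_mem hM2 hzM a)).1 (e ▸ hx)) hzM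

/-- The `S₄` in the normal subgroup of index two. -/
noncomputable def loc : Four.Local M where
  j := K.j.codRestrict M (K.j_mem hM2 hzM)
  inj := fun _ _ e => K.inj (congrArg Subtype.val e)
  cent := fun x hu hv => by
    obtain ⟨a, ha⟩ := K.exists_of_mem hM2 hzM (K.toCoord.mem_of_comm_uv K.hyp
      (congrArg Subtype.val hu) (congrArg Subtype.val hv)) x.2
    exact ⟨a, Subtype.ext ha⟩

theorem coe_loc (a : Perm (Fin 4)) : ((K.loc hM2 hzM).j a : G) = K.j a := rfl

theorem mem_or_mul (x : G) : x ∈ M ∨ ∃ m ∈ M, x = m * K.z := by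
  by_cases hx : x ∈ M
  · exact Or.inl hx
  · exact Or.inr ⟨x * K.z, K.mul_z_mem hM2 hzM hx, (K.toCoord.mul_z_mul_z x).symm⟩

theorem centralizer_eq_bot : centralizer (M : Set G) = ⊥ := by
  haveI : (centralizer (M : Set G)).Normal := inferInstance
  rw [eq_bot_iff]
  intro x hx
  have hcm : ∀ a, x * K.j a = K.j a * x := fun a =>
    (mem_centralizer_iff.1 hx _ (K.j_mem hM2 hzM a)).symm
  have hkey : ∀ a, (∀ b, K.j a * K.j b = K.j b * K.j a) → a = 1 := fun a ha => by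
    have ha' : ∀ b, a * b = b * a := fun b => K.inj (by rw [map_mul, map_mul]; exact ha b)
    exact center_perm a (ha' _) (ha' _) (ha' _) (ha' _)
  obtain ⟨a, e | e⟩ := K.cases x (K.toCoord.mem_of_comm_uv K.hyp (hcm _) (hcm _))
  · have := hkey a (fun b => by rw [← e]; exact hcm b)
    rw [e, this, map_one]; exact one_mem _
  · have h1 := hkey a (fun b => mul_right_cancel (b := K.z) (by
      rw [mul_assoc, K.z_comm b, ← mul_assoc, ← e, hcm b, e, mul_assoc]))
    rw [h1, map_one, one_mul] at e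
    subst e
    exfalso
    refine K.hyp.not_le_of_normal (N := M) (fun hb => hzM ?_) fun m hm => ?_
    · exfalso
      have hu := K.j_mem hM2 hzM uP
      rw [hb, mem_bot] at hu
      exact uP_facts.2.1 (K.inj (hu.trans K.j.map_one.symm))
    · exact K.toCoord.mem_H_of_comm K.hyp (mem_centralizer_iff.1 hx m hm)

theorem isSimple : IsSimpleGroup M := by
  haveI : Fact (Nat.Prime 2) := ⟨Nat.prime_two⟩
  haveI : Nontrivial M := ⟨⟨(K.loc hM2 hzM).j uP, 1, fun e =>
    uP_facts.2.1 ((K.loc hM2 hzM).inj (e.trans (map_one _).symm))⟩⟩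
  have hO : Cfsg.oddCore M = ⊥ := by
    haveI : (Cfsg.oddCore M).Characteristic := CfsgLib.PCore.pPrimeCore_characteristic_inst
    have hn : ((Cfsg.oddCore M).map M.subtype).Normal := inferInstance
    by_contra hne
    haveI := hn
    have hne' : (Cfsg.oddCore M).map M.subtype ≠ ⊥ :=
      fun e => hne ((map_eq_bot_iff_of_injective _ M.subtype_injective).1 e)
    have h2 := K.hyp.even_of_normal hne'
    rw [card_map_of_injective M.subtype_injective] at h2
    exact (Nat.Prime.coprime_iff_not_dvd Nat.prime_two).1 CfsgLib.PCore.pPrimeCore_coprime.symm h2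
  refine ⟨fun N hN => ?_⟩
  haveI := hN
  by_contra hc
  push Not at hc
  obtain ⟨hne, hnt⟩ := hc
  have h2 : 2 ∣ Nat.card N := by
    by_contra h2
    exact hne (eq_bot_iff.2 (hO ▸ CfsgLib.PCore.le_pPrimeCore_of_not_dvd hN h2))
  obtain ⟨⟨w, hw⟩, how⟩ := exists_prime_orderOf_dvd_card' (G := N) 2 h2
  have hu := (K.loc hM2 hzM).uP_mem_normal (N := N) ⟨w, hw, by rwa [orderOf_mk] at how⟩
  let N' : Subgroup G := N.map M.subtype ⊓ (N.map M.subtype).map (MulAut.conj K.z).toMonoidHom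
  have hmem : ∀ {x : G}, x ∈ N' ↔ x ∈ N.map M.subtype ∧ K.z * x * K.z ∈ N.map M.subtype := by
    intro x
    constructor
    · rintro ⟨h1, y, hy, rfl⟩
      refine ⟨h1, ?_⟩
      simp only [MulEquiv.coe_toMonoidHom, MulAut.conj_apply, K.toCoord.z_inv]
      rw [show K.z * (K.z * y * K.z) * K.z = K.z * K.z * y * (K.z * K.z) by group, K.z_sq]
      simpa using hy
    · rintro ⟨h1, h2⟩
      refine ⟨h1, _, h2, ?_⟩
      simp only [MulEquiv.coe_toMonoidHom, MulAut.conj_apply, K.toCoord.z_inv]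
      rw [show K.z * (K.z * x * K.z) * K.z = K.z * K.z * x * (K.z * K.z) by group, K.z_sq]
      group
  have hconjM : ∀ m ∈ M, ∀ y ∈ N.map M.subtype, m * y * m⁻¹ ∈ N.map M.subtype := by
    rintro m hm _ ⟨n, hn, rfl⟩
    exact ⟨⟨m, hm⟩ * n * ⟨m, hm⟩⁻¹, hN.conj_mem n hn _, rfl⟩
  haveI hN'n : N'.Normal := ⟨fun y hy x => by
    have key : ∀ m ∈ M, ∀ y, y ∈ N' → m * y * m⁻¹ ∈ N' := by
      intro m hm y hy
      refine hmem.2 ⟨hconjM m hm y (hmem.1 hy).1, ?_⟩
      have hz : K.z * m * K.z ∈ M := by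
        have := hMn.conj_mem m hm K.z
        rwa [K.toCoord.z_inv] at this
      have := hconjM _ hz _ (hmem.1 hy).2
      convert this using 1
      rw [mul_inv_rev, mul_inv_rev, K.toCoord.z_inv]
      simp only [mul_assoc]
      rw [← mul_assoc K.z K.z, K.z_sq, one_mul, ← mul_assoc K.z K.z, K.z_sq, one_mul]
    rcases K.mem_or_mul hM2 hzM x with hx | ⟨m, hm, rfl⟩
    · exact key x hx y hy
    · rw [show m * K.z * y * (m * K.z)⁻¹ = m * (K.z * y * K.z⁻¹) * m⁻¹ by group]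
      refine key m hm _ ?_
      rw [K.toCoord.z_inv]
      refine hmem.2 ⟨(hmem.1 hy).2, ?_⟩
      rw [show K.z * (K.z * y * K.z) * K.z = K.z * K.z * y * (K.z * K.z) by group, K.z_sq]
      simpa using (hmem.1 hy).1⟩
  have huN : K.j uP ∈ N' := by
    refine hmem.2 ⟨⟨_, hu, rfl⟩, ?_⟩
    rw [← K.z_comm, K.toCoord.mul_z_mul_z]
    exact ⟨_, hu, rfl⟩
  have hv : K.j vP ∈ N' := by
    obtain ⟨c, hc⟩ := uP_conj vP (Or.inl rfl)
    rw [← hc, map_mul, map_mul, map_inv]
    exact hN'n.conj_mem _ huN _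
  have hs : K.j sP ∈ N' := by
    obtain ⟨c, hc, e⟩ := K.swap
    have := hN'n.conj_mem _ hv g
    rw [e] at this
    obtain ⟨w', hw' | hw', rfl⟩ := SType_vP c hc <;> subst hw'
    · simpa using this
    · rw [map_mul] at this
      exact (N'.mul_mem_cancel_left huN).1 this
  haveI := hN'n.comap K.j
  have htop : ∀ a, K.j a ∈ N' := fun a => (eq_top_of_sP (N := N'.comap K.j) hs).ge (mem_top a)
  have hne' : N' ≠ ⊥ := fun e => by
    rw [e, mem_bot] at huN
    exact uP_facts.2.1 (K.inj (huN.trans K.j.map_one.symm))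
  refine hnt (eq_top_iff.2 fun m _ => ?_)
  have hmtop : (m : G) ∈ ((N' ⊔ H : Subgroup G) : Set G) := by
    rw [K.hyp.sup_normal_eq_top hne']; exact mem_top _
  rw [normal_mul] at hmtop
  obtain ⟨n, hn, y, hy, hny'⟩ := hmtop
  have hny : n * y = (m : G) := hny'
  have hnM : n ∈ M := by
    obtain ⟨⟨n', hn'⟩, -, rfl⟩ := (hmem.1 hn).1
    exact hn'
  have hyM : y ∈ M := (M.mul_mem_cancel_left hnM).1 (hny ▸ m.2)
  obtain ⟨a, rfl⟩ := K.exists_of_mem hM2 hzM hy hyM
  obtain ⟨n', hn', e'⟩ := (hmem.1 (show (m : G) ∈ N' from hny ▸ mul_mem hn (htop a))).1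
  rwa [← show n' = m from Subtype.ext e']

theorem sixteen_dvd : 16 ∣ Nat.card M := by
  have h1 := card_subgroup_dvd_card (normalizer (L : Set G))
  rw [K.toCoord.card_normalizer_L K.hyp, ← M.card_mul_index, hM2] at h1
  omega

end Ctx

end CfsgLib.Suborbit3.Times
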