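import Cfsg.Agent.Lib.Suborbit3.Concl
import Cfsg.Agent.Lib.Suborbit3.Times.Perm

/-!
# Stabilizer `S₄ × 2`: coordinates
-/

set_option autoImplicit false
set_option linter.style.haveILetI false
set_option linter.unusedSectionVars false

namespace CfsgLib.Suborbit3.Times

open Subgroup Equiv CfsgLib.Recognition.SubdegThree CfsgLib.Suborbit3.Four

variable {G : Type*} [Group G]

/-- Coordinates on `H ≅ S₄ × 2` adapted to `L`. -/
structure Coord (H L : Subgroup G) where
  /-- the factor `S₄` -/
  j : Perm (Fin 4) →* G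
  /-- the central involution -/
  z : G
  inj : Function.Injective j
  z_sq : z * z = 1
  z_not : ∀ a, j a ≠ z
  z_comm : ∀ a, j a * z = z * j a
  mem : ∀ a, j a ∈ H
  z_mem : z ∈ H
  cases : ∀ x ∈ H, ∃ a, x = j a ∨ x = j a * z
  memL : ∀ a, j a ∈ L ↔ a * uP = uP * a
  zL : z ∈ L

namespace Coord

variable {H L : Subgroup G} (C : Coord H L)

theorem z_ne_one : C.z ≠ 1 := fun e => C.z_not 1 (C.j.map_one.trans e.symm)

theorem z_inv : C.z⁻¹ = C.z := inv_eq_of_mul_eq_one_right C.z_sq

theorem orderOf_z : orderOf C.z = 2 :=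
  orderOf_eq_prime (by rw [pow_two]; exact C.z_sq) C.z_ne_one

theorem mul_z_mul_z (x : G) : x * C.z * C.z = x := by rw [mul_assoc, C.z_sq, mul_one]

theorem not_eq (a b : Perm (Fin 4)) : C.j a * C.z ≠ C.j b := fun e =>
  C.z_not (a⁻¹ * b) (by rw [map_mul, map_inv, ← e, inv_mul_cancel_left])

theorem mul_mul (a b : Perm (Fin 4)) : C.j a * C.z * (C.j b * C.z) = C.j (a * b) := by
  rw [mul_assoc, ← mul_assoc C.z, ← C.z_comm, mul_assoc, C.z_sq, mul_one, ← map_mul]

/-- The product parametrisation. -/
def pair : Perm (Fin 4) × Bool → G := fun p => if p.2 then C.j p.1 * C.z else C.j p.1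

theorem pair_injective : Function.Injective C.pair := by
  rintro ⟨a, _ | _⟩ ⟨b, _ | _⟩ e <;>
    simp only [pair, Bool.false_eq_true, if_false, if_true] at e
  · rw [C.inj e]
  · exact absurd e.symm (C.not_eq _ _)
  · exact absurd e (C.not_eq _ _)
  · rw [C.inj (mul_right_cancel e)]

include C in
theorem card_H [Finite G] : Nat.card H = 48 := by
  have hb : Function.Bijective (fun p => (⟨C.pair p, by
      unfold pair; split_ifs
      exacts [mul_mem (C.mem _) C.z_mem, C.mem _]⟩ : H)) := by
    refine ⟨fun p q e => C.pair_injective (congrArg Subtype.val e), fun x => ?_⟩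
    obtain ⟨a, e | e⟩ := C.cases x x.2
    · exact ⟨(a, false), Subtype.ext (by simp [pair, e])⟩
    · exact ⟨(a, true), Subtype.ext (by simp [pair, e])⟩
  rw [← Nat.card_eq_of_bijective _ hb, Nat.card_prod, card_perm, Nat.card_eq_fintype_card (α := Bool),
    Fintype.card_bool]

theorem mem_L_iff {a : Perm (Fin 4)} : C.j a * C.z ∈ L ↔ a * uP = uP * a := by
  rw [L.mul_mem_cancel_right C.zL, C.memL]

theorem cases_L {x : G} (hLH : L ≤ H) (hx : x ∈ L) :
    ∃ a, a * uP = uP * a ∧ (x = C.j a ∨ x = C.j a * C.z) := by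
  obtain ⟨a, e | e⟩ := C.cases x (hLH hx)
  · exact ⟨a, (C.memL a).1 (e ▸ hx), Or.inl e⟩
  · exact ⟨a, C.mem_L_iff.1 (e ▸ hx), Or.inr e⟩

/-- Twisting the factor `S₄` by the sign character. -/
noncomputable def twist : Coord H L where
  j :=
    { toFun := fun a => if Perm.sign a = 1 then C.j a else C.j a * C.z
      map_one' := by simp
      map_mul' := fun a b => by
        rcases Int.units_eq_one_or (Perm.sign a) with ha | ha <;>
          rcases Int.units_eq_one_or (Perm.sign b) with hb | hb <;>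
          simp only [map_mul, ha, hb, one_mul, mul_one, if_true,
            show ((-1 : ℤˣ) = 1) = False by simp, if_false, neg_mul_neg]
        · rw [mul_assoc]
        · rw [mul_assoc, mul_assoc, C.z_comm]
        · rw [← map_mul, C.mul_mul] }
  z := C.z
  inj := by
    refine (injective_iff_map_eq_one _).2 fun a e => ?_
    change (if Perm.sign a = 1 then C.j a else C.j a * C.z) = 1 at e
    split_ifs at e
    · exact C.inj (e.trans C.j.map_one.symm)
    · exact absurd (e.trans C.j.map_one.symm) (C.not_eq a 1)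
  z_sq := C.z_sq
  z_not := fun a => by
    change (if Perm.sign a = 1 then C.j a else C.j a * C.z) ≠ C.z
    split_ifs with h
    · exact C.z_not a
    · intro e
      have h1 : C.j a = C.j 1 := by rw [map_one, ← mul_eq_right.1 e]
      exact h (by rw [C.inj h1, map_one])
  z_comm := fun a => by
    change (if Perm.sign a = 1 then C.j a else C.j a * C.z) * C.z =
      C.z * (if Perm.sign a = 1 then C.j a else C.j a * C.z)
    split_ifs
    · exact C.z_comm a
    · rw [← mul_assoc C.z, ← C.z_comm]
  mem := fun a => by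
    change (if Perm.sign a = 1 then C.j a else C.j a * C.z) ∈ H
    split_ifs
    exacts [C.mem a, mul_mem (C.mem a) C.z_mem]
  z_mem := C.z_mem
  cases := fun x hx => by
    obtain ⟨a, e⟩ := C.cases x hx
    refine ⟨a, ?_⟩
    show x = (if Perm.sign a = 1 then C.j a else C.j a * C.z) ∨
      x = (if Perm.sign a = 1 then C.j a else C.j a * C.z) * C.z
    split_ifs
    · exact e
    · rw [C.mul_z_mul_z]; exact e.symm
  memL := fun a => by
    change (if Perm.sign a = 1 then C.j a else C.j a * C.z) ∈ L ↔ _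
    split_ifs
    exacts [C.memL a, C.mem_L_iff]
  zL := C.zL

theorem twist_apply (a : Perm (Fin 4)) :
    C.twist.j a = if Perm.sign a = 1 then C.j a else C.j a * C.z := rfl

end Coord

theorem zeta_facts : (Multiplicative.ofAdd (1 : ZMod 2)) * Multiplicative.ofAdd 1 = 1 ∧
    Multiplicative.ofAdd (1 : ZMod 2) ≠ 1 ∧
    ∀ b : Multiplicative (ZMod 2), b = 1 ∨ b = Multiplicative.ofAdd 1 := by decide +kernel

variable [Finite G] {H L : Subgroup G} {g : G}

theorem exists_coord (h : Hyp H L g) (J : Model H (Perm (Fin 4) × Multiplicative (ZMod 2))) :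
    Nonempty (Coord H L) := by
  haveI : Fact (Nat.Prime 2) := ⟨Nat.prime_two⟩
  obtain ⟨hζ2, hζ1, hζc⟩ := zeta_facts
  set ζ : Multiplicative (ZMod 2) := Multiplicative.ofAdd 1
  set z := J.j (1, ζ) with hzdef
  have hz2 : z * z = 1 := by rw [hzdef, ← map_mul, Prod.mk_mul_mk, hζ2, one_mul]; exact map_one _
  have hz1 : z ≠ 1 := fun e => hζ1 (congrArg Prod.snd (J.inj (e.trans J.j.map_one.symm)))
  have hcomm : ∀ x ∈ H, x * z = z * x := by
    intro x hx
    obtain ⟨⟨a, b⟩, rfl⟩ := J.exists_eq hx
    rw [hzdef, ← map_mul, ← map_mul, Prod.mk_mul_mk, Prod.mk_mul_mk, mul_one, one_mul, mul_comm b]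
  have hzL : z ∈ L := by
    by_contra hz
    have hn : zpowers z ≤ normalizer (L : Set G) := zpowers_le.2
      (mem_normalizer_of_conj fun y hy => by
        rwa [show z * y * z⁻¹ = y from mul_inv_eq_iff_eq_mul.2 (hcomm y (h.data.hLH hy)).symm])
    have hp : IsPGroup 2 (L ⊔ zpowers z : Subgroup G) :=
      IsPGroup.to_sup_of_normal_left' h.data.h2
        (IsPGroup.of_card (n := 1) (by
          rw [Nat.card_zpowers, orderOf_eq_prime (by rw [pow_two]; exact hz2) hz1, pow_one])) hn
    rcases h.data.eq_of_lt (le_sup_left : L ≤ L ⊔ zpowers z)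
        (sup_le h.data.hLH (zpowers_le.2 (J.mem _))) with e | e
    · exact hz (e ▸ mem_sup_right (mem_zpowers _))
    · exact h.data.not_pgroup (e ▸ hp)
  have hK : Nat.card (L.comap (J.j.comp (MonoidHom.inl _ _))) = 8 := by
    have hm : ∀ p : Perm (Fin 4) × Multiplicative (ZMod 2),
        J.j p ∈ L ↔ J.j (p.1, 1) ∈ L := by
      rintro ⟨a, b⟩
      rcases hζc b with rfl | rfl
      · rfl
      · rw [show J.j (a, ζ) = J.j (a, 1) * z by
          rw [hzdef, ← map_mul, Prod.mk_mul_mk, mul_one, one_mul], L.mul_mem_cancel_right hzL]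
    let f : L.comap (J.j.comp (MonoidHom.inl _ _)) × Multiplicative (ZMod 2) → L := fun p =>
      ⟨J.j ((p.1 : Perm (Fin 4)), p.2), (hm _).2 p.1.2⟩
    have hb : Function.Bijective f := by
      constructor
      · rintro ⟨a, b⟩ ⟨a', b'⟩ e
        have := J.inj (congrArg Subtype.val e)
        simp only [Prod.mk.injEq] at this
        rw [Subtype.ext this.1, this.2]
      · rintro ⟨x, hx⟩
        obtain ⟨⟨a, b⟩, rfl⟩ := J.exists_eq (h.data.hLH hx)
        exact ⟨(⟨a, (hm (a, b)).1 hx⟩, b), rfl⟩
    have h1 := h.card_H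
    rw [J.card_eq, Nat.card_prod, card_perm, Nat.card_eq_fintype_card (α := Multiplicative (ZMod 2)),
      ← Nat.card_eq_of_bijective f hb, Nat.card_prod,
      Nat.card_eq_fintype_card (α := Multiplicative (ZMod 2))] at h1
    rw [show Fintype.card (Multiplicative (ZMod 2)) = 2 from rfl] at h1
    omega
  obtain ⟨a, ha⟩ := exists_sylow_conj hK
  refine ⟨{
    j := (J.j.comp (MonoidHom.inl _ _)).comp (MulAut.conj a).toMonoidHom
    z := z
    inj := (J.inj.comp fun x y e => congrArg Prod.fst e).comp (MulAut.conj a).injective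
    z_sq := hz2
    z_not := fun b e => hζ1 (congrArg Prod.snd (J.inj e)).symm
    z_comm := fun b => hcomm _ (J.mem _)
    mem := fun b => J.mem _
    z_mem := J.mem _
    cases := ?_
    memL := ?_
    zL := hzL }⟩
  · intro x hx
    obtain ⟨⟨c, b⟩, rfl⟩ := J.exists_eq hx
    refine ⟨(MulAut.conj a).symm c, ?_⟩
    rcases hζc b with rfl | rfl
    · refine Or.inl ?_
      simp only [MonoidHom.comp_apply, MulEquiv.coe_toMonoidHom, MulEquiv.apply_symm_apply]
      rfl
    · refine Or.inr ?_
      simp only [MonoidHom.comp_apply, MulEquiv.coe_toMonoidHom, MulEquiv.apply_symm_apply]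
      rw [hzdef, MonoidHom.inl_apply, ← map_mul, Prod.mk_mul_mk, mul_one, one_mul]
  · intro b
    rw [← mem_D8, MonoidHom.comp_apply, ← mem_comap, ← ha, mem_map_equiv]
    simp only [MulEquiv.coe_toMonoidHom, MulEquiv.symm_apply_apply]

end CfsgLib.Suborbit3.Times
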