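import Cfsg.Agent.Lib.Suborbit3.Times.Fusion

/-!
# Stabilizer `S₄ × 2`: the Sylow subgroup
-/

set_option autoImplicit false
set_option linter.style.haveILetI false
set_option linter.unusedSectionVars false

namespace CfsgLib.Suborbit3.Times

open Subgroup Equiv CfsgLib.Recognition.SubdegThree CfsgLib.Suborbit3.Four

variable {G : Type*} [Group G] [Finite G] {H L : Subgroup G} {g : G}

/-- Coordinates in which `g` maps the four-group into the dihedral group. -/
structure Ctx (H L : Subgroup G) (g : G) extends Coord H L where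
  hyp : Hyp H L g
  swap : ∃ c, SType c ∧ g * j vP * g⁻¹ = j c

theorem exists_ctx (h : Hyp H L g) (J : Model H (Perm (Fin 4) × Multiplicative (ZMod 2))) :
    Nonempty (Ctx H L g) := by
  obtain ⟨C⟩ := exists_coord h J
  obtain ⟨c, hc, e | e⟩ := C.conj_v_cases h h.data.hg (C.g_not_mem h)
  · exact ⟨{ toCoord := C, hyp := h, swap := ⟨c, hc, e⟩ }⟩
  · refine ⟨{ toCoord := C.twist, hyp := h, swap := ⟨c, hc, ?_⟩ }⟩
    rw [C.twist_apply, C.twist_apply, if_pos sign_facts.2.1, SType_sign c hc,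
      if_neg (by decide), e]

namespace Ctx

variable (K : Ctx H L g)
include K

theorem g_mem : g ∈ normalizer (L : Set G) := K.hyp.data.hg

theorem g_not : g ∉ L := K.toCoord.g_not_mem K.hyp

theorem conj_L {x : G} (hx : x ∈ L) :
    ∃ a, a * uP = uP * a ∧ ∀ b, x * K.j b * x⁻¹ = K.j (a * b * a⁻¹) := by
  obtain ⟨a, ha, e | e⟩ := K.toCoord.cases_L K.hyp.data.hLH hx <;> refine ⟨a, ha, fun b => ?_⟩ <;>
    subst e
  · simp [map_mul, map_inv]
  · rw [map_mul, map_mul, map_inv, show K.j a * K.z * K.j b * (K.j a * K.z)⁻¹ =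
      K.j a * (K.z * K.j b * K.z⁻¹) * (K.j a)⁻¹ by group, ← K.z_comm, mul_inv_cancel_right]

theorem fix {b : G} (hb : b ∈ normalizer (L : Set G)) : b * K.j uP * b⁻¹ = K.j uP :=
  K.toCoord.fix_uP K.hyp hb

/-- Elements outside `L` act on the dihedral group as outer automorphisms. -/
theorem exists_img {b : G} (hb : b ∈ normalizer (L : Set G)) (hbL : b ∉ L) :
    ∃ c₁ c₂, SType c₁ ∧ VType c₂ ∧
      ∀ a, a * uP = uP * a → b * K.j a * b⁻¹ = K.j (img c₁ c₂ a) := by
  obtain ⟨c, hc, hgc⟩ := K.swap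
  have hgi : g⁻¹ ∉ L := fun e => K.g_not (inv_mem_iff.1 e)
  obtain ⟨a, ha, hl⟩ := K.conj_L (K.toCoord.mul_out K.hyp hb hbL (inv_mem K.g_mem) hgi)
  obtain ⟨a', ha', hl'⟩ := K.conj_L (K.toCoord.mul_out K.hyp hb hbL K.g_mem K.g_not)
  have h1 : b * K.j vP * b⁻¹ = K.j (a * c * a⁻¹) := by
    rw [← hl c, ← hgc]; group
  have h2 : b * K.j c * b⁻¹ = K.j (a' * vP * a'⁻¹) := by
    rw [← hl' vP, ← hgc]; group
  obtain ⟨e, he, rfl⟩ := SType_vP c hc
  obtain ⟨c₂, hc₂, h3⟩ : ∃ c₂, VType c₂ ∧ b * K.j sP * b⁻¹ = K.j c₂ := by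
    rcases he with rfl | rfl
    · exact ⟨_, VType_conj a' ha', by simpa using h2⟩
    · refine ⟨_, VType_mul _ (VType_conj a' ha'), ?_⟩
      rw [map_mul K.j uP (a' * vP * a'⁻¹), ← h2, map_mul, ← conj_mul (a := K.j uP), K.fix hb,
        ← mul_assoc, ← map_mul, uP_facts.1, map_one, one_mul]
  refine ⟨_, c₂, SType_conj a _ ha hc, hc₂, fun d hd => ?_⟩
  set c₁ := a * (e * sP) * a⁻¹
  obtain ⟨i1, i2, i3, i4, i5, i6, i7, i8⟩ := img_values c₁ c₂
  have hu := K.fix hb
  rcases D8_cases d hd with rfl | rfl | rfl | rfl | rfl | rfl | rfl | rfl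
  · rw [i1, map_one, mul_one, mul_inv_cancel]
  · rw [i2, hu]
  · rw [i3, h1]
  · rw [i4, map_mul, map_mul, ← conj_mul, hu, h1]
  · rw [i5, h3]
  · rw [i6, map_mul, map_mul, ← conj_mul, hu, h3]
  · rw [i7, map_mul, map_mul, ← conj_mul, h1, h3]
  · rw [i8, map_mul, map_mul, map_mul, map_mul, ← conj_mul, ← conj_mul, hu, h1, h3]

theorem conj_z_out {b : G} (hb : b ∈ normalizer (L : Set G)) (hbL : b ∉ L) :
    b * K.z * b⁻¹ = K.j uP * K.z := K.toCoord.conj_z_out K.hyp hb hbL

/-- Squares of elements outside `L` lie in the dihedral group. -/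
theorem sq_mem {b : G} (hb : b ∈ normalizer (L : Set G)) (hbL : b ∉ L) :
    ∃ d, d * uP = uP * d ∧ b * b = K.j d := by
  obtain ⟨d, hd, e | e⟩ := K.toCoord.cases_L K.hyp.data.hLH (K.toCoord.mul_out K.hyp hb hbL hb hbL)
  · exact ⟨d, hd, e⟩
  · exfalso
    obtain ⟨c₁, c₂, hc₁, hc₂, hi⟩ := K.exists_img hb hbL
    refine no_twisted_square c₁ c₂ d hc₁ hc₂ hd (K.inj ?_) (K.inj ?_)
    · rw [map_mul, ← hi d hd, show K.j d = b * b * K.z⁻¹ by rw [e]; group, K.z_inv]
      calc b * (b * b * K.z) * b⁻¹ = b * b * (b * K.z * b⁻¹) := by group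
        _ = b * b * K.z * K.j uP := by rw [K.conj_z_out hb hbL, K.z_comm]; group
    · rw [← hi _ (img_mem c₁ c₂ vP hc₁ hc₂ (mem_D8.1 vP_mem) |>.trans rfl),
        ← hi vP (mem_D8.1 vP_mem),
        show b * (b * K.j vP * b⁻¹) * b⁻¹ = b * b * K.j vP * (b * b)⁻¹ by group, e, map_mul,
        map_mul, map_inv, show K.j d * K.z * K.j vP * (K.j d * K.z)⁻¹ =
          K.j d * (K.z * K.j vP * K.z⁻¹) * (K.j d)⁻¹ by group, ← K.z_comm, mul_inv_cancel_right]

theorem mul_d_not {b : G} (hbL : b ∉ L) {d : Perm (Fin 4)} (hd : d * uP = uP * d) :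
    b * K.j d ∉ L := fun e => hbL ((L.mul_mem_cancel_right ((K.memL d).2 hd)).1 e)

/-- There is a coset of the dihedral group outside `L` without involutions. -/
theorem exists_rho : ∃ ρ ∈ normalizer (L : Set G), ρ ∉ L ∧
    ∀ d, d * uP = uP * d → ρ * K.j d * (ρ * K.j d) ≠ 1 := by
  by_cases hex : ∃ σ ∈ normalizer (L : Set G), σ ∉ L ∧ σ * σ = 1
  · obtain ⟨σ, hσ, hσL, h2⟩ := hex
    refine ⟨σ * K.z, mul_mem hσ (le_normalizer K.zL),
      fun e => hσL ((L.mul_mem_cancel_right K.zL).1 e), fun d hd e => ?_⟩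
    obtain ⟨c₁, c₂, hc₁, hc₂, hi⟩ := K.exists_img hσ hσL
    have hi2 : σ⁻¹ = σ := inv_eq_of_mul_eq_one_right h2
    refine no_two_involutions c₁ c₂ d hc₁ hc₂ hd (K.inj ?_) (K.inj ?_)
    · rw [← hi _ (img_mem c₁ c₂ vP hc₁ hc₂ (mem_D8.1 vP_mem)), ← hi vP (mem_D8.1 vP_mem),
        show σ * (σ * K.j vP * σ⁻¹) * σ⁻¹ = σ * σ * K.j vP * (σ * σ)⁻¹ by group, h2]
      group
    · rw [map_mul, map_mul, map_one, ← hi d hd, hi2, ← e]
      have hz := K.conj_z_out hσ hσL
      rw [hi2] at hz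
      calc σ * K.j d * σ * K.j d * K.j uP
          = σ * K.j d * σ * K.j d * (K.j uP * K.z) * K.z := by
            rw [← mul_assoc _ (K.j uP) K.z, K.toCoord.mul_z_mul_z]
        _ = σ * K.j d * σ * (K.j uP * K.z) * K.j d * K.z := by
          have hc : K.j d * (K.j uP * K.z) = K.j uP * K.z * K.j d := by
            rw [← mul_assoc, ← map_mul, hd, map_mul, mul_assoc, mul_assoc, K.z_comm d]
          rw [mul_assoc (σ * K.j d * σ) (K.j d), hc, ← mul_assoc]
        _ = σ * K.j d * σ * (σ * K.z * σ) * K.j d * K.z := by rw [hz]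
        _ = σ * K.j d * (σ * σ) * K.z * (σ * K.j d * K.z) := by group
        _ = σ * (K.j d * K.z) * (σ * (K.j d * K.z)) := by rw [h2, mul_one]; group
        _ = σ * K.z * K.j d * (σ * K.z * K.j d) := by rw [K.z_comm d]; group
  · push Not at hex
    exact ⟨g, K.g_mem, K.g_not, fun d hd =>
      hex _ (mul_mem K.g_mem (le_normalizer ((K.memL d).2 hd))) (K.mul_d_not K.g_not hd)⟩

/-- `N(L)` is a Sylow subgroup. -/
theorem exists_sylow : ∃ S : Sylow 2 G, (S : Subgroup G) = normalizer (L : Set G) := by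
  haveI : Fact (Nat.Prime 2) := ⟨Nat.prime_two⟩
  have hp : IsPGroup 2 (normalizer (L : Set G)) :=
    IsPGroup.of_card (n := 5) (by rw [K.toCoord.card_normalizer_L K.hyp]; norm_num)
  obtain ⟨S, hS⟩ := hp.exists_le_sylow
  refine ⟨S, le_antisymm ?_ hS⟩
  set E := normalizer (L : Set G)
  by_contra hlt
  have htop : E.subgroupOf (S : Subgroup G) < ⊤ :=
    lt_top_iff_ne_top.2 fun e => hlt (subgroupOf_eq_top.1 e)
  haveI : Group.IsNilpotent (S : Subgroup G) := S.isPGroup'.isNilpotent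
  obtain ⟨x, hx, hxn⟩ := SetLike.exists_of_lt
    (Group.normalizerCondition_of_isNilpotent _ htop)
  have hxE : ∀ w, w ∈ E ↔ (x : G) * w * (x : G)⁻¹ ∈ E := by
    intro w
    constructor
    · intro hw
      exact (mem_normalizer_iff.1 hx ⟨w, hS hw⟩).1 hw
    · intro hw
      have hwS : w ∈ (S : Subgroup G) := by
        have := mul_mem (mul_mem (inv_mem x.2) (hS hw)) x.2
        rwa [show (x : G)⁻¹ * ((x : G) * w * (x : G)⁻¹) * (x : G) = w by group] at this
      exact (mem_normalizer_iff.1 hx ⟨w, hwS⟩).2 hw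
  set c : G := (x : G)
  set y := c * K.z * c⁻¹ with hy
  have hHS : H ⊓ (S : Subgroup G) = L := by
    rcases K.hyp.data.eq_of_lt (le_inf K.hyp.data.hLH (le_normalizer.trans hS))
      (inf_le_left : H ⊓ (S : Subgroup G) ≤ H) with e | e
    · exact e
    · exact absurd (S.isPGroup'.to_le (inf_eq_left.1 e)) K.hyp.data.not_pgroup
  have hyne : y ≠ K.z ∧ y ≠ K.j uP * K.z := by
    constructor
    · intro e
      exact hxn (le_normalizer (hHS.le ⟨K.toCoord.mem_H_of_fix K.hyp e, x.2⟩))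
    · intro e
      have hH : g⁻¹ * c ∈ H := K.toCoord.mem_H_of_fix K.hyp (by
        rw [show g⁻¹ * c * K.z * (g⁻¹ * c)⁻¹ = g⁻¹ * y * g by rw [hy]; group, e,
          ← K.conj_z_out K.g_mem K.g_not]
        group)
      have hl := hHS.le ⟨hH, (S : Subgroup G).mul_mem ((S : Subgroup G).inv_mem (hS K.g_mem)) x.2⟩
      have := mul_mem K.g_mem (le_normalizer hl)
      rw [mul_inv_cancel_left] at this
      exact hxn this
  have hyE : y ∈ E := (hxE _).1 (le_normalizer K.zL)
  have hy2 : y * y = 1 := by rw [hy, conj_mul, K.z_sq, mul_one, mul_inv_cancel]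
  -- the centralizer of `y` in `E` has index two
  have hmem : ∀ b ∈ E, b * y = y * b ↔ c⁻¹ * b * c ∈ L := by
    intro b hb
    constructor
    · intro e
      have hH : c⁻¹ * b * c ∈ H := K.toCoord.mem_H_of_comm K.hyp (by
        calc c⁻¹ * b * c * K.z = c⁻¹ * (b * y) * c := by rw [hy]; group
          _ = c⁻¹ * (y * b) * c := by rw [e]
          _ = K.z * (c⁻¹ * b * c) := by rw [hy]; group)
      refine (K.toCoord.normalizer_L_inf K.hyp).le ⟨(hxE _).2 ?_, hH⟩
      rw [show c * (c⁻¹ * b * c) * c⁻¹ = b by group]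
      exact hb
    · intro hl
      have hc := mem_centralizer_singleton_iff.1
        ((K.toCoord.cent_z K.hyp).ge (K.hyp.data.hLH hl))
      calc b * y = c * (c⁻¹ * b * c * K.z) * c⁻¹ := by rw [hy]; group
        _ = c * (K.z * (c⁻¹ * b * c)) * c⁻¹ := by rw [hc]
        _ = y * b := by rw [hy]; group
  have htwo : ∀ a ∈ E, ∀ b ∈ E, a * y ≠ y * a → b * y ≠ y * b → a * b * y = y * (a * b) := by
    intro a ha b hb na nb
    rw [hmem _ (mul_mem ha hb), show c⁻¹ * (a * b) * c = c⁻¹ * a * c * (c⁻¹ * b * c) by group]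
    have hin : ∀ w ∈ E, c⁻¹ * w * c ∈ E := fun w hw => (hxE _).2 (by
      rw [show c * (c⁻¹ * w * c) * c⁻¹ = w by group]; exact hw)
    exact K.toCoord.mul_out K.hyp (hin a ha) (fun e => na ((hmem a ha).2 e)) (hin b hb)
      fun e => nb ((hmem b hb).2 e)
  by_cases hyL : y ∈ L
  · obtain ⟨a, ha, e⟩ := K.toCoord.cases_L K.hyp.data.hLH hyL
    have ha2 : a * a = 1 := K.inj (by
      rw [map_one, ← hy2]
      rcases e with e | e <;> rw [e]
      · rw [map_mul]
      · rw [K.toCoord.mul_mul])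
    have hnu : ∀ k : G, y ≠ k * K.j uP * k⁻¹ := fun k e' =>
      K.toCoord.not_conj_u K.hyp (k⁻¹ * c) (by
        rw [show k⁻¹ * c * K.z * (k⁻¹ * c)⁻¹ = k⁻¹ * y * k by rw [hy]; group, e']; group)
    have hright : a ≠ 1 → a ≠ uP → y = K.j a * K.z → False := by
      intro n1 nu e
      obtain ⟨b, hb, hbL, hby⟩ : ∃ b ∈ E, b ∉ L ∧ b * y = y * b := by
        by_cases hgy : g * y = y * g
        · exact ⟨g, K.g_mem, K.g_not, hgy⟩
        · obtain ⟨l, hl, hly⟩ : ∃ l ∈ L, l * y ≠ y * l := by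
            by_contra hc
            push Not at hc
            have hcd : ∀ b, b * uP = uP * b → a * b = b * a := by
              intro b hb
              have h' := hc _ ((K.memL b).2 hb)
              rw [e, ← mul_assoc, mul_assoc (K.j a), ← K.z_comm, ← mul_assoc] at h'
              refine (K.inj ?_).symm
              rw [map_mul, map_mul]
              exact mul_right_cancel h'
            rcases central_D8 a ha (hcd _ (mem_D8.1 vP_mem)) (hcd _ (mem_D8.1 sP_mem)) with h1 | h1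
            · exact n1 h1
            · exact nu h1
          exact ⟨g * l, mul_mem K.g_mem (le_normalizer hl),
            fun e' => K.g_not ((L.mul_mem_cancel_right hl).1 e'),
            htwo _ K.g_mem _ (le_normalizer hl) hgy hly⟩
      obtain ⟨c₁, c₂, hc₁, hc₂, hi⟩ := K.exists_img hb hbL
      refine fixed_noncentral c₁ c₂ a hc₁ hc₂ ha ha2 (K.inj (mul_right_cancel (b := K.z) ?_))
      have hbf : b * y * b⁻¹ = y := mul_inv_eq_iff_eq_mul.2 hby
      rw [e, ← conj_mul, hi a ha, K.conj_z_out hb hbL, ← mul_assoc] at hbf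
      rw [map_mul, hbf]
    rcases inv_cases a ha ha2 with (rfl | rfl) | hV | hSt
    · rcases e with e | e
      · rw [map_one] at e; exact K.toCoord.z_ne_one (conj_eq_one_iff.1 (hy ▸ e))
      · exact hyne.1 (by rw [e, map_one, one_mul])
    · rcases e with e | e
      · exact hnu 1 (by rw [e]; group)
      · exact hyne.2 e
    · rcases e with e | e
      · obtain ⟨k, hk⟩ := uP_conj a hV
        exact hnu (K.j k) (by rw [e, ← hk, map_mul, map_mul, map_inv])
      · exact hright (by rcases hV with rfl | rfl <;> decide +kernel)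
          (by rcases hV with rfl | rfl <;> decide +kernel) e
    · rcases e with e | e
      · obtain ⟨c₁, c₂, hc₁, hc₂, hi⟩ := K.exists_img K.g_mem K.g_not
        obtain ⟨w, hw, hwa⟩ : ∃ w, VType w ∧ img c₁ c₂ w = a := by
          rcases hc₁ with rfl | rfl <;> rcases hSt with rfl | rfl <;>
            first
              | exact ⟨vP, Or.inl rfl, (img_values _ _).2.2.1⟩
              | exact ⟨uP * vP, Or.inr rfl, (img_values _ _).2.2.2.1.trans (by decide +kernel)⟩
        obtain ⟨k, hk⟩ := uP_conj w hw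
        exact hnu (g * K.j k) (by
          rw [e, ← hwa, ← hi w (VType_mem w hw).1, ← hk, map_mul, map_mul, map_inv]; group)
      · exact hright (SType_facts a hSt).2.2.2.2.1 (SType_facts a hSt).2.2.2.2.2 e
  · -- `y` outside `L`
    obtain ⟨c₁, c₂, hc₁, hc₂, hi⟩ := K.exists_img hyE hyL
    have hvy : K.j vP * y ≠ y * K.j vP := by
      intro e
      have h1 := hi vP (mem_D8.1 vP_mem)
      rw [← e, mul_inv_cancel_right, (img_values c₁ c₂).2.2.1] at h1
      exact (SType_facts c₁ hc₁).2.2.2.1 (Or.inl (K.inj h1).symm)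
    have hzy : K.z * y ≠ y * K.z := by
      intro e
      have h1 := K.conj_z_out hyE hyL
      rw [← e, mul_inv_cancel_right] at h1
      exact uP_facts.2.1 (K.inj ((mul_eq_right.1 h1.symm).trans K.j.map_one.symm))
    have h3 := htwo _ (le_normalizer ((K.memL _).2 (mem_D8.1 vP_mem))) _ (le_normalizer K.zL) hvy hzy
    have h1 := hi vP (mem_D8.1 vP_mem)
    rw [(img_values c₁ c₂).2.2.1] at h1
    have h4 : y * (K.j vP * K.z) * y⁻¹ = K.j vP * K.z :=
      mul_inv_eq_iff_eq_mul.2 h3.symm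
    rw [← conj_mul, h1, K.conj_z_out hyE hyL, ← mul_assoc, ← map_mul] at h4
    have h5 := K.inj (mul_right_cancel h4)
    rcases hc₁ with rfl | rfl <;> revert h5 <;> decide +kernel

end Ctx

end CfsgLib.Suborbit3.Times
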